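import Groth.Agent.H27QuotBC.Basic
import Groth.Agent.H27Quot.Basic

/-!
# Quotients by finite groups of invertible order: arbitrary base change, products
-/

set_option autoImplicit false
set_option linter.style.haveILetI false
set_option backward.isDefEq.respectTransparency false

universe u

open CategoryTheory CategoryTheory.Limits AlgebraicGeometry TensorProduct

namespace Groth.Agent.H27SymProd

open Groth.Agent.H27QuotBC

section Ring

variable {B A B' A' : CommRingCat.{u}} {a : B ⟶ A} {b : B ⟶ B'} {c : A ⟶ A'} {d : B' ⟶ A'}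

/-- Invariants of a finite group of invertible order commute with any base change (Reynolds operator). -/
theorem invariants_baseChange_of_isUnit (h : IsPushout a b c d) {G : Type u} [Finite G]
    (hn : IsUnit (Nat.card G : B)) {σ : G → (A →+* A)} {σ' : G → (A' →+* A')}
    (hperm : ∀ k, ∃ π : G ≃ G, ∀ g x, σ k (σ g x) = σ (π g) x) (hσa : ∀ g r, σ g (a r) = a r)
    (hσc : ∀ g x, σ' g (c x) = c (σ g x)) (hσd : ∀ g y, σ' g (d y) = d y)
    (hinj : Function.Injective a) (hinv : ∀ x, (∀ g, σ g x = x) → x ∈ Set.range a) :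
    Function.Injective d ∧ ∀ z, (∀ g, σ' g z = z) → z ∈ Set.range d := by
  classical
  haveI := Fintype.ofFinite G
  letI := a.hom.toAlgebra
  letI := b.hom.toAlgebra
  letI := d.hom.toAlgebra
  letI : Algebra B A' := (d.hom.comp b.hom).toAlgebra
  haveI : IsScalarTower B B' A' := IsScalarTower.of_algebraMap_eq fun _ => rfl
  obtain ⟨δ, hδ, hbc⟩ := Groth.Agent.H18Et.GammaBC.isBaseChange_of_isPushout h.flip
  let e : B' ⊗[B] A ≃ₗ[B'] A' := hbc.equiv
  have he : ∀ t x, e (t ⊗ₜ[B] x) = d t * c x := fun t x => by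
    rw [show e (t ⊗ₜ[B] x) = t • δ x from hbc.equiv_tmul t x, Algebra.smul_def, hδ]
    rfl
  let f : B →ₗ[B] A := Algebra.linearMap B A
  let s : G → (A →ₗ[B] A) := fun g =>
    { toFun := σ g
      map_add' := map_add (σ g)
      map_smul' := fun r x => by
        simp only [Algebra.smul_def, map_mul, RingHom.id_apply]
        rw [show σ g (algebraMap B A r) = algebraMap B A r from hσa g r] }
  let T : A →ₗ[B] A := ∑ g, s g
  have hT : ∀ x, T x ∈ LinearMap.range f := fun x => by
    refine hinv _ fun k => ?_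
    obtain ⟨π, hπ⟩ := hperm k
    simp only [T, LinearMap.sum_apply, map_sum]
    exact Fintype.sum_equiv π _ _ fun g => hπ g x
  let r : A →ₗ[B] B := (↑hn.unit⁻¹ : B) •
    ((LinearEquiv.ofInjective f hinj).symm.toLinearMap.comp (T.codRestrict (LinearMap.range f) hT))
  have hfr : f.comp r = (↑hn.unit⁻¹ : B) • T := by
    ext x
    simp only [r, LinearMap.comp_apply, LinearMap.smul_apply, map_smul]
    exact congrArg _ (congrArg Subtype.val
      ((LinearEquiv.ofInjective f hinj).apply_symm_apply (T.codRestrict _ hT x)))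
  have hu : (↑hn.unit⁻¹ : B) * (Nat.card G : B) = 1 := hn.val_inv_mul
  have hrf : r.comp f = LinearMap.id := by
    refine LinearMap.ext fun x => hinj ?_
    show f.comp r (f x) = f x
    rw [hfr, LinearMap.smul_apply, show T (f x) = (Nat.card G : B) • f x from ?_, smul_smul, hu, one_smul]
    simp only [T, LinearMap.sum_apply]
    rw [Finset.sum_congr rfl fun g _ => show s g (f x) = f x from hσa g x, Finset.sum_const,
      Finset.card_univ, Nat.card_eq_fintype_card, Nat.cast_smul_eq_nsmul]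
  have hkey : ∀ g z, e ((s g).lTensor B' z) = σ' g (e z) := by
    intro g z
    induction z using TensorProduct.induction_on with
    | zero => simp
    | tmul t x =>
      rw [LinearMap.lTensor_tmul, he, he, map_mul, hσd, hσc]
      rfl
    | add u v hu hv => simp only [map_add, hu, hv]
  have hf : ∀ t, e (f.lTensor B' (t ⊗ₜ[B] 1)) = d t := fun t => by
    rw [LinearMap.lTensor_tmul, he, show f 1 = 1 from map_one (algebraMap B A), map_one, mul_one]
  refine ⟨fun t₁ t₂ ht => ?_, fun z hz => ?_⟩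
  · rw [← hf, ← hf] at ht
    have h2 := congrArg (r.lTensor B') (e.injective ht)
    rw [← LinearMap.comp_apply, ← LinearMap.comp_apply, ← LinearMap.lTensor_comp, hrf,
      LinearMap.lTensor_id] at h2
    simpa using congrArg (TensorProduct.rid B B') h2
  · have hw : (f.lTensor B') (r.lTensor B' (e.symm z)) = e.symm z := by
      rw [← LinearMap.comp_apply, ← LinearMap.lTensor_comp, hfr, LinearMap.lTensor_smul,
        LinearMap.smul_apply, show T.lTensor B' (e.symm z) = (Nat.card G : B) • e.symm z from ?_,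
        smul_smul, hu, one_smul]
      have hs : ∀ g, (s g).lTensor B' (e.symm z) = e.symm z := fun g => e.injective (by
        rw [hkey, LinearEquiv.apply_symm_apply, hz g])
      simp only [T]
      rw [show (∑ g, s g).lTensor B' = ∑ g, (s g).lTensor B' from map_sum (LinearMap.lTensorHom B') s _,
        LinearMap.sum_apply, Finset.sum_congr rfl fun g _ => hs g, Finset.sum_const, Finset.card_univ,
        Nat.card_eq_fintype_card, Nat.cast_smul_eq_nsmul]
    refine ⟨TensorProduct.rid B B' (r.lTensor B' (e.symm z)), ?_⟩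
    rw [← hf, ← TensorProduct.rid_symm_apply, LinearEquiv.symm_apply_apply, hw, LinearEquiv.apply_symm_apply]

end Ring

/-- The structure map to a field of characteristic zero makes positive integers invertible. -/
theorem isUnit_natCast {k : Type u} [Field k] [CharZero k] {S : Scheme.{u}}
    (s : S ⟶ Spec (CommRingCat.of k)) {m : ℕ} (hm : m ≠ 0) : IsUnit (m : Γ(S, ⊤)) := by
  rw [← map_natCast ((Scheme.ΓSpecIso (CommRingCat.of k)).inv ≫ s.appTop).hom]
  exact (isUnit_iff_ne_zero.mpr (Nat.cast_ne_zero.mpr hm : (m : k) ≠ 0)).map _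

variable {X Y X' Y' : Scheme.{u}} {G : Type u} [Group G]

theorem isQuot_baseChange_of_isUnit [Finite G] {ρ : G →* Aut X} {p : X ⟶ Y} (hp : SGA1.IsQuot ρ p)
    {j : X' ⟶ X} {r : X' ⟶ Y'} {g : Y' ⟶ Y} (hn : IsUnit (Nat.card G : Γ(Y, ⊤))) (H : IsPullback j r p g)
    (ρ' : G →* Aut X') (hj : ∀ γ, (ρ' γ).hom ≫ j = j ≫ (ρ γ).hom)
    (hr : ∀ γ, (ρ' γ).hom ≫ r = r) : SGA1.IsQuot ρ' r := by
  haveI := hp.affine
  haveI : IsAffineHom r := MorphismProperty.of_isPullback H (inferInstanceAs (IsAffineHom p))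
  have key : ∀ V : Y'.Opens, IsAffineOpen V ∧ (∃ U : Y.Opens, IsAffineOpen U ∧ V ≤ g ⁻¹ᵁ U) →
      Function.Injective (r.app V).hom ∧ ∀ s : Γ(X', r ⁻¹ᵁ V),
        (∀ γ : G, ((ρ' γ).hom.appLE (r ⁻¹ᵁ V) (r ⁻¹ᵁ V)
          (SGA1.preimage_le_of_inv ρ' r hr γ V)).hom s = s) → s ∈ Set.range (r.app V).hom := by
    rintro V ⟨hV, U, hU, hVU⟩
    have hUY : r ⁻¹ᵁ V = j ⁻¹ᵁ (p ⁻¹ᵁ U) ⊓ r ⁻¹ᵁ V := by
      refine le_antisymm (le_inf ?_ le_rfl) inf_le_right
      rw [← Scheme.Hom.comp_preimage, H.w, Scheme.Hom.comp_preimage]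
      exact r.preimage_mono hVU
    have hle : r ⁻¹ᵁ V ≤ j ⁻¹ᵁ (p ⁻¹ᵁ U) := hUY.le.trans inf_le_left
    have hsq := (isIso_pushoutSection_iff H hVU le_rfl hUY).1
      (isIso_pushoutSection_of_isAffineOpen H hVU le_rfl hUY hU hV (hU.preimage p))
    have hpU : p.appLE U (p ⁻¹ᵁ U) le_rfl = p.app U := (Scheme.Hom.app_eq_appLE p).symm
    have hrV : r.appLE V (r ⁻¹ᵁ V) le_rfl = r.app V := (Scheme.Hom.app_eq_appLE r).symm
    have hres := invariants_baseChange_of_isUnit hsq
      (by rw [← map_natCast (Y.presheaf.map (homOfLE le_top).op).hom]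
          exact hn.map _)
      (fun h => ⟨Equiv.mulRight h, fun γ x => (H27Quot.act_mul hp U γ h x).symm⟩)
      (σ := fun γ => ((ρ γ).hom.appLE (p ⁻¹ᵁ U) (p ⁻¹ᵁ U) (SGA1.preimage_le_of_inv ρ p hp.inv γ U)).hom)
      (σ' := fun γ => ((ρ' γ).hom.appLE (r ⁻¹ᵁ V) (r ⁻¹ᵁ V) (SGA1.preimage_le_of_inv ρ' r hr γ V)).hom)
      (fun γ b => by
        rw [hpU]
        exact H18Quot.invariant_app ρ p hp.inv U b γ)
      (fun γ x => by
        rw [← CommRingCat.comp_apply, ← CommRingCat.comp_apply, Scheme.Hom.appLE_comp_appLE,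
          Scheme.Hom.appLE_comp_appLE]
        simp only [hj γ])
      (fun γ y => by
        rw [← CommRingCat.comp_apply, Scheme.Hom.appLE_comp_appLE]
        simp only [hr γ])
      (by rw [hpU]; exact hp.injective U)
      (fun x hx => by rw [hpU]; exact (hp.range_iff U x).2 hx)
    rw [hrV] at hres
    exact hres
  refine H18Quot.isQuot_of_basis ρ' r hr
    (fun V => IsAffineOpen V ∧ ∃ U : Y.Opens, IsAffineOpen U ∧ V ≤ g ⁻¹ᵁ U) (fun W y hy => ?_)
    (fun V hV => (key V hV).1) (fun V hV => (key V hV).2)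
  obtain ⟨U, hU, hyU, -⟩ := exists_isAffineOpen_mem_and_subset (X := Y) (x := g y) (U := ⊤) trivial
  obtain ⟨V, hV, hyV, hVle⟩ :=
    exists_isAffineOpen_mem_and_subset (X := Y') (x := y) (U := W ⊓ g ⁻¹ᵁ U) ⟨hy, hyU⟩
  exact ⟨V, ⟨hV, U, hU, fun z hz => (hVle hz).2⟩, hyV, fun z hz => (hVle hz).1⟩

variable {H : Type u} [Group H] {XG YH S : Scheme.{u}}

theorem isQuot_prod_of_isUnit [Finite G] [Finite H] (fX : X ⟶ S) (fY : Y ⟶ S) (gX : XG ⟶ S) (gY : YH ⟶ S)
    (hG : IsUnit (Nat.card G : Γ(XG, ⊤))) (hH : IsUnit (Nat.card H : Γ(YH, ⊤))) (ρ : G →* Aut X) (σ : H →* Aut Y) (hσ : ∀ h, (σ h).hom ≫ fY = fY)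
    (p : X ⟶ XG) (hp : p ≫ gX = fX) (q : Y ⟶ YH) (hq : q ≫ gY = fY)
    (hP : SGA1.IsQuot ρ p) (hQ : SGA1.IsQuot σ q) (θ : G × H →* Aut (pullback fX fY))
    (hθ1 : ∀ gh : G × H, (θ gh).hom ≫ pullback.fst fX fY = pullback.fst fX fY ≫ (ρ gh.1).hom)
    (hθ2 : ∀ gh : G × H, (θ gh).hom ≫ pullback.snd fX fY = pullback.snd fX fY ≫ (σ gh.2).hom)
    (π : pullback fX fY ⟶ pullback gX gY) (hπ1 : π ≫ pullback.fst gX gY = pullback.fst fX fY ≫ p)
    (hπ2 : π ≫ pullback.snd gX gY = pullback.snd fX fY ≫ q) :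
    SGA1.IsQuot θ π := by
  let a : pullback fX fY ⟶ pullback gX fY :=
    pullback.lift (pullback.fst fX fY ≫ p) (pullback.snd fX fY)
      (by rw [Category.assoc, hp, pullback.condition])
  let b : pullback gX fY ⟶ pullback gX gY :=
    pullback.lift (pullback.fst gX fY) (pullback.snd gX fY ≫ q)
      (by rw [Category.assoc, hq, pullback.condition])
  have H1 : IsPullback (pullback.fst fX fY) a p (pullback.fst gX fY) := by
    refine (IsPullback.of_right ?_ (pullback.lift_fst _ _ _) (IsPullback.of_hasPullback gX fY).flip).flip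
    rw [pullback.lift_snd, hp]
    exact (IsPullback.of_hasPullback fX fY).flip
  have H2 : IsPullback (pullback.snd gX fY) b q (pullback.snd gX gY) := by
    refine (IsPullback.of_right ?_ (pullback.lift_snd _ _ _) (IsPullback.of_hasPullback gX gY)).flip
    rw [pullback.lift_fst, hq]
    exact IsPullback.of_hasPullback gX fY
  let σf : H → (pullback gX fY ⟶ pullback gX fY) := fun h =>
    pullback.lift (pullback.fst gX fY) (pullback.snd gX fY ≫ (σ h).hom)
      (by rw [Category.assoc, hσ, pullback.condition])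
  have hσf : ∀ h h', σf (h * h') = σf h' ≫ σf h := fun h h' => by
    apply pullback.hom_ext <;>
      simp [σf, map_mul, Aut.Aut_mul_def]
  have hσ1 : σf 1 = 𝟙 _ := by
    apply pullback.hom_ext <;> simp [σf, show (1 : Aut Y).hom = 𝟙 Y from rfl]
  let σ₁ : H →* Aut (pullback gX fY) :=
    { toFun := fun h => ⟨σf h, σf h⁻¹, by rw [← hσf, inv_mul_cancel, hσ1],
        by rw [← hσf, mul_inv_cancel, hσ1]⟩
      map_one' := Iso.ext hσ1
      map_mul' := fun h h' => Iso.ext (hσf h h') }
  have q1 : SGA1.IsQuot (θ.comp (MonoidHom.inl G H)) a := by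
    refine isQuot_baseChange_of_isUnit hP hG H1 _ (fun g => hθ1 (g, 1)) fun g => ?_
    apply pullback.hom_ext
    · simp only [a, Category.assoc, pullback.lift_fst, MonoidHom.coe_comp, Function.comp_apply,
        MonoidHom.inl_apply, reassoc_of% (hθ1 (g, 1)), hP.inv]
    · simp [a, hθ2, show (1 : Aut Y).hom = 𝟙 Y from rfl]
  have q2 : SGA1.IsQuot σ₁ b := by
    refine isQuot_baseChange_of_isUnit hQ hH H2 _ (fun h => pullback.lift_snd _ _ _) fun h => ?_
    apply pullback.hom_ext <;> simp [b, σ₁, σf, hQ.inv]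
  have hπ : π = a ≫ b := by
    apply pullback.hom_ext <;> simp [a, b, hπ1, hπ2]
  rw [hπ]
  refine isQuot_comp q1 q2 fun h => ?_
  apply pullback.hom_ext
  · simp [a, σ₁, σf, reassoc_of% (hθ1 (1, h)), show (1 : Aut X).hom = 𝟙 X from rfl]
  · simp [a, σ₁, σf, hθ2]

end Groth.Agent.H27SymProd
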