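import Groth.Prelude.Def_SymProd
import Groth.Agent.H27SymProd.CharZeroBC
import Groth.Agent.H27SymProd.Coset
import Groth.Agent.H18Quot.Categorical
import Groth.Agent.H20GQ.Descend
import Mathlib

/-!
# Symmetric products of a disjoint union
-/

set_option autoImplicit false
set_option linter.style.haveILetI false
set_option backward.isDefEq.respectTransparency false

universe u

open CategoryTheory CategoryTheory.Limits AlgebraicGeometry

namespace Groth.Agent.H27SymProd

/-! ## Restriction of an action to an invariant open -/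

variable {X : Scheme.{u}} {G : Type u} [Group G]

theorem exists_restrict (ρ : G →* Aut X) (U : X.Opens) (hU : ∀ g x, x ∈ U → (ρ g).hom x ∈ U) :
    ∃ ρU : G →* Aut (U : Scheme.{u}), ∀ g, (ρU g).hom ≫ U.ι = U.ι ≫ (ρ g).hom := by
  have hr : ∀ g, Set.range (U.ι ≫ (ρ g).hom) ⊆ Set.range U.ι := by
    rintro g _ ⟨x, rfl⟩
    rw [Scheme.Opens.range_ι]
    exact hU g x.1 x.2
  let φ : G → ((U : Scheme.{u}) ⟶ U) := fun g => IsOpenImmersion.lift U.ι (U.ι ≫ (ρ g).hom) (hr g)
  have hφ : ∀ g, φ g ≫ U.ι = U.ι ≫ (ρ g).hom := fun g => IsOpenImmersion.lift_fac _ _ _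
  have h1 : φ 1 = 𝟙 _ := by
    rw [← cancel_mono U.ι, hφ, map_one, show (1 : Aut X).hom = 𝟙 X from rfl, Category.comp_id, Category.id_comp]
  have hm : ∀ g h, φ (g * h) = φ h ≫ φ g := fun g h => by
    rw [← cancel_mono U.ι, hφ, Category.assoc, hφ, reassoc_of% (hφ h), map_mul, Aut.Aut_mul_def, Iso.trans_hom]
  exact ⟨{ toFun := fun g => ⟨φ g, φ g⁻¹, by rw [← hm, inv_mul_cancel, h1], by rw [← hm, mul_inv_cancel, h1]⟩
           map_one' := Iso.ext h1
           map_mul' := fun g h => Iso.ext (hm g h) }, hφ⟩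

/-! ## Coordinates in the first summand -/

variable {A B S : Scheme.{u}}

/-- The coordinates of a point of the fibre power of a disjoint union lying in the first summand. -/
noncomputable def coordL {F : A ⨿ B ⟶ S} {n : ℕ} (x : SymProd.fibPow F n) : Finset (Fin n) :=
  letI := Classical.decPred fun m =>
    (WidePullback.π (fun _ => F) m) x ∈ (coprod.inl (X := A) (Y := B)).opensRange
  Finset.univ.filter fun m => (WidePullback.π (fun _ => F) m) x ∈ (coprod.inl (X := A) (Y := B)).opensRange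

variable {F : A ⨿ B ⟶ S} {n : ℕ}

theorem mem_coordL {x : SymProd.fibPow F n} {m : Fin n} :
    m ∈ coordL x ↔ (WidePullback.π (fun _ => F) m) x ∈ Set.range (coprod.inl (X := A) (Y := B)) := by
  simp [coordL]

theorem not_mem_coordL {x : SymProd.fibPow F n} {m : Fin n} :
    m ∉ coordL x ↔ (WidePullback.π (fun _ => F) m) x ∈ Set.range (coprod.inr (X := A) (Y := B)) := by
  rw [mem_coordL, ← Set.mem_compl_iff, (isCompl_range_inl_inr A B).compl_eq]

theorem coordL_perm (σ : Equiv.Perm (Fin n)) (x : SymProd.fibPow F n) :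
    coordL (SymProd.permHom F n σ x) = (coordL x).map σ.toEmbedding := by
  ext m
  rw [mem_coordL, Finset.mem_map_equiv, mem_coordL, ← Scheme.Hom.comp_apply, SymProd.permHom_π]

theorem isOpen_coordL_eq (T : Finset (Fin n)) : IsOpen {x : SymProd.fibPow F n | coordL x = T} := by
  have : {x : SymProd.fibPow F n | coordL x = T} = ⋂ m : Fin n,
      {x | m ∈ coordL x ↔ m ∈ T} := by
    ext x
    simp [Finset.ext_iff]
  rw [this]
  refine isOpen_iInter_of_finite fun m => ?_
  by_cases hm : m ∈ T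
  · simp only [hm, iff_true, mem_coordL]
    exact (coprod.inl (X := A) (Y := B)).opensRange.2.preimage (WidePullback.π (fun _ => F) m).continuous
  · simp only [hm, iff_false, not_mem_coordL]
    exact (coprod.inr (X := A) (Y := B)).opensRange.2.preimage (WidePullback.π (fun _ => F) m).continuous

theorem isOpen_card_coordL (c : ℕ) : IsOpen {x : SymProd.fibPow F n | (coordL x).card = c} := by
  have : {x : SymProd.fibPow F n | (coordL x).card = c} =
      ⋃ T : {T : Finset (Fin n) // T.card = c}, {x | coordL x = T.1} := by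
    ext x
    simp
  rw [this]
  exact isOpen_iUnion fun T => isOpen_coordL_eq T.1

/-- Permutations of the first `i` and of the last `j` letters. -/
def blockHom (i j : ℕ) :
    ULift.{u} (Equiv.Perm (Fin i)) × ULift.{u} (Equiv.Perm (Fin j)) →* ULift.{u} (Equiv.Perm (Fin (i + j))) :=
  MulEquiv.ulift.symm.toMonoidHom.comp ((finSumFinEquiv.permCongrHom.toMonoidHom).comp
    ((Equiv.Perm.sumCongrHom (Fin i) (Fin j)).comp
      (MulEquiv.ulift.toMonoidHom.prodMap MulEquiv.ulift.toMonoidHom)))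

theorem blockHom_down (i j : ℕ) (ab : ULift.{u} (Equiv.Perm (Fin i)) × ULift.{u} (Equiv.Perm (Fin j))) :
    (blockHom.{u} i j ab).down = finSumFinEquiv.permCongr (Equiv.Perm.sumCongr ab.1.down ab.2.down) := rfl

variable {k : Type u} [Field k] [CharZero k]

/-- The part of `Sym^(i+j)` of a disjoint union with `i` points in the first summand is `Sym^i × Sym^j`. -/
theorem exists_iso_piece (pS : S ⟶ Spec (CommRingCat.of k)) (f : A ⟶ S) (f' : B ⟶ S) (i j : ℕ)
    {Si Sj T : Scheme.{u}} (qi : SymProd.fibPow f i ⟶ Si) (gi : Si ⟶ S) (hi : SymProd.IsSymProd f i qi gi)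
    (qj : SymProd.fibPow f' j ⟶ Sj) (gj : Sj ⟶ S) (hj : SymProd.IsSymProd f' j qj gj)
    (F : A ⨿ B ⟶ S) (hFl : coprod.inl ≫ F = f) (hFr : coprod.inr ≫ F = f')
    (p : SymProd.fibPow F (i + j) ⟶ T) (h : T ⟶ S) (hT : SymProd.IsSymProd F (i + j) p h)
    (Tc : T.Opens) (hTc : ∀ x, p x ∈ Tc ↔ (coordL x).card = i) :
    ∃ e : (Tc : Scheme.{u}) ≅ pullback gi gj, e.hom ≫ pullback.fst gi gj ≫ gi = Tc.ι ≫ h := by
  classical
  set ρ := SymProd.permActU.{u} F (i + j)
  let π : ∀ m, SymProd.fibPow F (i + j) ⟶ A ⨿ B := fun m => WidePullback.π (fun _ => F) m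
  -- the stable clopen `V` over `Tc`
  let V := p ⁻¹ᵁ Tc
  obtain ⟨ρV, hρV⟩ := exists_restrict ρ V fun g x hx => by
    show p ((ρ g).hom x) ∈ Tc
    rw [← Scheme.Hom.comp_apply, hT.isQuot.inv g]
    exact hx
  have hsq : IsPullback V.ι (p ∣_ Tc) p Tc.ι := (isPullback_morphismRestrict p Tc).flip
  have hV : SGA1.IsQuot ρV (p ∣_ Tc) := by
    refine H27QuotBC.isQuot_of_flat_baseChange hT.isQuot hsq ρV hρV fun g => ?_
    rw [← cancel_mono Tc.ι, Category.assoc, morphismRestrict_ι, reassoc_of% (hρV g), hT.isQuot.inv g]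
  -- the slice `W`
  let A0 : Finset (Fin (i + j)) := Finset.univ.map (Fin.castAddEmb j)
  have hA0 : A0.card = i := by simp [A0]
  have hA0l : ∀ a, Fin.castAdd j a ∈ A0 := fun a => by simp [A0]
  have hA0r : ∀ b, Fin.natAdd i b ∉ A0 := fun b => by
    simp [A0, Fin.ext_iff]
    omega
  let W : V.toScheme.Opens := V.ι ⁻¹ᵁ ⟨_, isOpen_coordL_eq A0⟩
  have hmemW : ∀ v : V.toScheme, v ∈ W ↔ coordL (V.ι v) = A0 := fun v => Iff.rfl
  let ι := W.ι ≫ V.ι
  have hVmem : ∀ x, x ∈ Set.range V.ι ↔ (coordL x).card = i := fun x => by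
    rw [Scheme.Opens.range_ι]
    exact hTc x
  -- the block subgroup
  let Ψ := blockHom.{u} i j
  have hΨl : ∀ ab a, (Ψ ab).down (Fin.castAdd j a) = Fin.castAdd j (ab.1.down a) := fun ab a => by
    simp [Ψ, blockHom_down, Equiv.permCongr_apply]
  have hΨr : ∀ ab b, (Ψ ab).down (Fin.natAdd i b) = Fin.natAdd i (ab.2.down b) := fun ab b => by
    simp [Ψ, blockHom_down, Equiv.permCongr_apply]
  have hact : ∀ g v, coordL (V.ι ((ρV g).hom v)) = (coordL (V.ι v)).map g.down.toEmbedding := fun g v => by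
    rw [← Scheme.Hom.comp_apply, hρV, Scheme.Hom.comp_apply, SymProd.permActU_hom, coordL_perm]
  have hWH : ∀ (c : Ψ.range) (v : V.toScheme), v ∈ W → (ρV (c : ULift _)).hom v ∈ W := by
    rintro ⟨_, ab, rfl⟩ v hv
    rw [hmemW, hact, (hmemW v).1 hv]
    ext m
    rw [Finset.mem_map_equiv]
    obtain ⟨m, rfl⟩ := (Ψ ab).down.surjective m
    rw [Equiv.symm_apply_apply]
    refine Fin.addCases (fun a => ?_) (fun b => ?_) m
    · simp [hΨl, hA0l]
    · simp [hΨr, hA0r]
  obtain ⟨ρW, hρW⟩ := exists_restrict (ρV.comp Ψ.range.subtype) W hWH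
  have hW : SGA1.IsQuot ρW (W.ι ≫ p ∣_ Tc) := by
    refine isQuot_slice ρV _ hV Ψ.range W (fun v => ?_) (fun g hg => ?_) ρW hρW
    · have hc : (coordL (V.ι v)).card = i := (hVmem _).1 ⟨v, rfl⟩
      let e : {m // m ∈ A0} ≃ {m // m ∈ coordL (V.ι v)} :=
        Fintype.equivOfCardEq (by rw [Fintype.card_coe, Fintype.card_coe, hA0, hc])
      let g : ULift.{u} (Equiv.Perm (Fin (i + j))) := ⟨e.extendSubtype⟩
      refine ⟨g, (ρV g⁻¹).hom v, ?_, ?_⟩
      · show (ρV g⁻¹).hom v ∈ W
        rw [hmemW, hact]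
        ext m
        rw [Finset.mem_map_equiv]
        show e.extendSubtype m ∈ _ ↔ _
        exact ⟨fun hm => by_contra fun hn => e.extendSubtype_not_mem m hn hm, e.extendSubtype_mem m⟩
      · rw [← Scheme.Hom.comp_apply, ← Iso.trans_hom, ← Aut.Aut_mul_def, ← map_mul, mul_inv_cancel, map_one]
        rfl
    · rw [Set.disjoint_left]
      rintro _ ⟨v, hv, rfl⟩ hgv
      apply hg
      have e1 := ((hact g v).symm.trans ((hmemW _).1 hgv))
      rw [(hmemW v).1 hv] at e1
      let σ : Equiv.Perm (Fin i ⊕ Fin j) := finSumFinEquiv.symm.permCongr g.down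
      have hmap : Set.MapsTo σ (Set.range Sum.inl) (Set.range Sum.inl) := by
        rintro _ ⟨a, rfl⟩
        have : g.down (Fin.castAdd j a) ∈ A0 := by
          rw [← e1]
          exact Finset.mem_map_of_mem _ (hA0l a)
        simp only [A0, Finset.mem_map, Finset.mem_univ, true_and] at this
        obtain ⟨b, hb⟩ := this
        refine ⟨b, finSumFinEquiv.injective ?_⟩
        simp only [σ, Equiv.permCongr_apply, Equiv.symm_symm, Equiv.apply_symm_apply,
          finSumFinEquiv_apply_left]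
        exact hb
      obtain ⟨⟨a, b⟩, hab⟩ := Equiv.Perm.mem_sumCongrHom_range_of_perm_mapsTo_inl hmap
      refine ⟨(⟨a⟩, ⟨b⟩), ULift.ext _ _ ?_⟩
      rw [blockHom_down]
      show finSumFinEquiv.permCongr (Equiv.Perm.sumCongrHom (Fin i) (Fin j) (a, b)) = g.down
      rw [hab]
      ext x
      simp [σ]
  -- the map from the product of the two fibre powers
  let Ri := WidePullback.base (fun _ : Fin i => f)
  let Rj := WidePullback.base (fun _ : Fin j => f')
  let comp : Fin (i + j) → (pullback Ri Rj ⟶ A ⨿ B) := Fin.addCases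
    (fun a => pullback.fst Ri Rj ≫ WidePullback.π (fun _ => f) a ≫ coprod.inl)
    (fun b => pullback.snd Ri Rj ≫ WidePullback.π (fun _ => f') b ≫ coprod.inr)
  let φ : pullback Ri Rj ⟶ SymProd.fibPow F (i + j) :=
    WidePullback.lift (pullback.fst Ri Rj ≫ Ri) comp (fun m => by
      refine Fin.addCases (fun a => ?_) (fun b => ?_) m
      · simp [comp, hFl, Ri, WidePullback.π_arrow]
      · simp [comp, hFr, Ri, Rj, WidePullback.π_arrow, pullback.condition])
  have hφl : ∀ a, φ ≫ π (Fin.castAdd j a) = pullback.fst Ri Rj ≫ WidePullback.π (fun _ => f) a ≫ coprod.inl :=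
    fun a => (WidePullback.lift_π _ _ _ _ _).trans (Fin.addCases_left _)
  have hφr : ∀ b, φ ≫ π (Fin.natAdd i b) = pullback.snd Ri Rj ≫ WidePullback.π (fun _ => f') b ≫ coprod.inr :=
    fun b => (WidePullback.lift_π _ _ _ _ _).trans (Fin.addCases_right _)
  have hφb : φ ≫ WidePullback.base (fun _ => F) = pullback.fst Ri Rj ≫ Ri := WidePullback.lift_base _ _ _ _
  have hφA : ∀ r, coordL (φ r) = A0 := by
    intro r
    ext m
    refine Fin.addCases (fun a => ?_) (fun b => ?_) m
    · rw [mem_coordL, ← Scheme.Hom.comp_apply, hφl]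
      exact iff_of_true ⟨_, rfl⟩ (hA0l a)
    · refine iff_of_false ?_ (hA0r b)
      rw [not_mem_coordL, ← Scheme.Hom.comp_apply, hφr]
      exact ⟨_, rfl⟩
  have hιr : Set.range φ ⊆ Set.range ι := by
    rintro _ ⟨r, rfl⟩
    obtain ⟨v, hv⟩ := (hVmem (φ r)).2 (by rw [hφA, hA0])
    exact ⟨⟨v, (hmemW v).2 (by rw [hv, hφA])⟩, hv⟩
  let φ' := IsOpenImmersion.lift ι φ hιr
  have hφ' : φ' ≫ ι = φ := IsOpenImmersion.lift_fac _ _ _
  -- the inverse
  have hAι : ∀ w, coordL (ι w) = A0 := fun w => (hmemW _).1 w.2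
  have hl : ∀ a, Set.range (ι ≫ π (Fin.castAdd j a)) ⊆ Set.range (coprod.inl (X := A) (Y := B)) := by
    rintro a _ ⟨w, rfl⟩
    exact mem_coordL.1 (show Fin.castAdd j a ∈ coordL (ι w) by rw [hAι]; exact hA0l a)
  have hr : ∀ b, Set.range (ι ≫ π (Fin.natAdd i b)) ⊆ Set.range (coprod.inr (X := A) (Y := B)) := by
    rintro b _ ⟨w, rfl⟩
    exact not_mem_coordL.1 (show Fin.natAdd i b ∉ coordL (ι w) by rw [hAι]; exact hA0r b)
  let bF := ι ≫ WidePullback.base (fun _ => F)
  let ψi : W.toScheme ⟶ SymProd.fibPow f i :=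
    WidePullback.lift bF (fun a => IsOpenImmersion.lift coprod.inl _ (hl a)) (fun a => by
      rw [← hFl, IsOpenImmersion.lift_fac_assoc,
        Category.assoc, WidePullback.π_arrow (fun _ => F)])
  let ψj : W.toScheme ⟶ SymProd.fibPow f' j :=
    WidePullback.lift bF (fun b => IsOpenImmersion.lift coprod.inr _ (hr b)) (fun b => by
      rw [← hFr, IsOpenImmersion.lift_fac_assoc,
        Category.assoc, WidePullback.π_arrow (fun _ => F)])
  let ψ : W.toScheme ⟶ pullback Ri Rj :=
    pullback.lift ψi ψj (by simp [ψi, ψj, Ri, Rj])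
  have hψφ : ψ ≫ φ = ι := by
    refine WidePullback.hom_ext _ _ _ (fun m => ?_) ?_
    · refine Fin.addCases (fun a => ?_) (fun b => ?_) m
      · rw [Category.assoc]
        erw [hφl]
        simp [ψ, ψi, π, IsOpenImmersion.lift_fac]
      · rw [Category.assoc]
        erw [hφr]
        simp [ψ, ψj, π, IsOpenImmersion.lift_fac]
    · rw [Category.assoc, hφb]
      simp [ψ, ψi, Ri, bF]
  have hψφ' : ψ ≫ φ' = 𝟙 _ := by rw [← cancel_mono ι, Category.assoc, hφ', hψφ, Category.id_comp]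
  have hφ'ψ : φ' ≫ ψ = 𝟙 _ := by
    apply pullback.hom_ext
    · rw [Category.id_comp, Category.assoc, show ψ ≫ pullback.fst Ri Rj = ψi from pullback.lift_fst _ _ _]
      refine WidePullback.hom_ext _ _ _ (fun a => ?_) ?_
      · rw [Category.assoc, WidePullback.lift_π, ← cancel_mono (coprod.inl (X := A) (Y := B)), Category.assoc,
          IsOpenImmersion.lift_fac, ← Category.assoc φ' ι, hφ', hφl, Category.assoc]
      · rw [Category.assoc, WidePullback.lift_base, ← Category.assoc, hφ', hφb]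
    · rw [Category.id_comp, Category.assoc, show ψ ≫ pullback.snd Ri Rj = ψj from pullback.lift_snd _ _ _]
      refine WidePullback.hom_ext _ _ _ (fun b => ?_) ?_
      · rw [Category.assoc, WidePullback.lift_π, ← cancel_mono (coprod.inr (X := A) (Y := B)), Category.assoc,
          IsOpenImmersion.lift_fac, ← Category.assoc φ' ι, hφ', hφr, Category.assoc]
      · rw [Category.assoc, WidePullback.lift_base, ← Category.assoc, hφ', hφb]
        exact pullback.condition
  haveI : IsIso φ' := ⟨ψ, hφ'ψ, hψφ'⟩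
  haveI : Mono φ := by rw [← hφ']; infer_instance
  -- the product action
  let θf : ULift.{u} (Equiv.Perm (Fin i)) × ULift.{u} (Equiv.Perm (Fin j)) → (pullback Ri Rj ⟶ pullback Ri Rj) :=
    fun ab => pullback.lift (pullback.fst Ri Rj ≫ SymProd.permHom f i ab.1.down)
      (pullback.snd Ri Rj ≫ SymProd.permHom f' j ab.2.down) (by simp [Ri, Rj, pullback.condition])
  have hθm : ∀ x y, θf (x * y) = θf y ≫ θf x := fun x y => by
    apply pullback.hom_ext <;> simp [θf, SymProd.permHom_mul]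
  have hθ1 : θf 1 = 𝟙 _ := by apply pullback.hom_ext <;> simp [θf, SymProd.permHom_one]
  let θ : ULift.{u} (Equiv.Perm (Fin i)) × ULift.{u} (Equiv.Perm (Fin j)) →* Aut (pullback Ri Rj) :=
    { toFun := fun x => ⟨θf x, θf x⁻¹, by rw [← hθm, inv_mul_cancel, hθ1], by rw [← hθm, mul_inv_cancel, hθ1]⟩
      map_one' := Iso.ext hθ1
      map_mul' := fun x y => Iso.ext (hθm x y) }
  have hθφ : ∀ ab, θf ab ≫ φ = φ ≫ SymProd.permHom F (i + j) (Ψ ab).down := by
    intro ab
    refine WidePullback.hom_ext _ _ _ (fun m => ?_) ?_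
    · obtain ⟨m, rfl⟩ := (Ψ ab).down.surjective m
      rw [Category.assoc, Category.assoc, SymProd.permHom_π, Equiv.symm_apply_apply]
      refine Fin.addCases (fun a => ?_) (fun b => ?_) m
      · rw [hΨl]
        erw [hφl, hφl]
        simp [θf]
      · rw [hΨr]
        erw [hφr, hφr]
        simp [θf]
    · simp only [Category.assoc, SymProd.permHom_base, hφb]
      simp [θf, Ri]
  have hρι : ∀ ab, (ρW (Ψ.rangeRestrict ab)).hom ≫ ι = ι ≫ SymProd.permHom F (i + j) (Ψ ab).down := fun ab => by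
    simp only [ι]
    rw [← Category.assoc, hρW]
    simp only [MonoidHom.coe_comp, Function.comp_apply, Subgroup.coe_subtype, MonoidHom.coe_rangeRestrict,
      Category.assoc, hρV, ρ, SymProd.permActU_hom]
  let π₂ : pullback Ri Rj ⟶ pullback gi gj :=
    pullback.lift (pullback.fst Ri Rj ≫ qi) (pullback.snd Ri Rj ≫ qj)
      (by simp [hi.over, hj.over, Ri, Rj, pullback.condition])
  have hR : SGA1.IsQuot θ π₂ := by
    refine isQuot_prod_of_isUnit Ri Rj gi gj (isUnit_natCast (gi ≫ pS) Nat.card_pos.ne')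
      (isUnit_natCast (gj ≫ pS) Nat.card_pos.ne') _ _ (fun b => SymProd.permHom_base f' j _) qi hi.over qj hj.over
      hi.isQuot hj.isQuot θ (fun ab => pullback.lift_fst _ _ _) (fun ab => pullback.lift_snd _ _ _) π₂
      (pullback.lift_fst _ _ _) (pullback.lift_snd _ _ _)
  set pW := W.ι ≫ p ∣_ Tc
  obtain ⟨h₁, hh₁⟩ := H18Quot.exists_desc (ψ ≫ π₂) (fun c => by
    obtain ⟨ab, rfl⟩ := Ψ.rangeRestrict_surjective c
    have e : (ρW (Ψ.rangeRestrict ab)).hom ≫ ψ = ψ ≫ θf ab := by
      rw [← cancel_mono φ, Category.assoc, hψφ, Category.assoc, hθφ, reassoc_of% hψφ, hρι]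
    rw [reassoc_of% e]
    exact congrArg (ψ ≫ ·) (hR.inv ab)) hW
  obtain ⟨h₂, hh₂⟩ := H18Quot.exists_desc (φ' ≫ pW) (fun ab => by
    have e : θf ab ≫ φ' = φ' ≫ (ρW (Ψ.rangeRestrict ab)).hom := by
      rw [← cancel_mono ι, Category.assoc, hφ', Category.assoc, hρι, reassoc_of% hφ', hθφ]
    show θf ab ≫ φ' ≫ pW = _
    rw [reassoc_of% e, hW.inv]) hR
  refine ⟨⟨h₁, h₂, ?_, ?_⟩, ?_⟩
  · refine H20GQ.hom_ext (H27Quot.surjective hW) hW.injective ?_
    rw [reassoc_of% hh₁, hh₂, reassoc_of% hψφ', Category.comp_id]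
  · refine H20GQ.hom_ext (H27Quot.surjective hR) hR.injective ?_
    rw [reassoc_of% hh₂, hh₁, reassoc_of% hφ'ψ, Category.comp_id]
  · refine H20GQ.hom_ext (H27Quot.surjective hW) hW.injective ?_
    show pW ≫ h₁ ≫ pullback.fst gi gj ≫ gi = pW ≫ Tc.ι ≫ h
    rw [reassoc_of% hh₁]
    simp only [pW, π₂, Category.assoc, pullback.lift_fst_assoc, morphismRestrict_ι_assoc, hT.over, hi.over]
    rw [← hφb, reassoc_of% hψφ]
    simp [ι, V, hT.over]

end Groth.Agent.H27SymProd
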