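/-
Degrees of finite locally free morphisms multiply under composition.
-/
import Groth.Prelude.Def_Mor2
import Mathlib

set_option autoImplicit false
set_option linter.style.haveILetI false
set_option backward.isDefEq.respectTransparency false

universe u

open CategoryTheory CategoryTheory.Limits AlgebraicGeometry TensorProduct

namespace Groth.Agent.H27SymProd

/-- A finite flat algebra of constant rank over a finite algebra over a field. -/
theorem finrank_tower {K B C : Type u} [Field K] [CommRing B] [CommRing C] [Algebra K B] [Algebra K C]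
    [Algebra B C] [IsScalarTower K B C] [Module.Finite K B] [Module.Finite B C] [Module.Flat B C] {a : ℕ}
    (h : ∀ p : PrimeSpectrum B, Module.rankAtStalk C p = a) :
    Module.finrank K C = a * Module.finrank K B := by
  haveI : IsArtinianRing B := IsArtinianRing.of_finite K B
  rcases subsingleton_or_nontrivial B with hB | hB
  · haveI : Subsingleton C := Module.subsingleton B C
    simp [Module.finrank_zero_of_subsingleton]
  obtain ⟨e⟩ := Module.nonempty_basis_of_flat_of_finrank_eq B C a fun P => by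
    letI := Ideal.Quotient.field P.1
    have h1 := Module.rankAtStalk_baseChange (R := B) (M := C) (S := B ⧸ P.1) (⊥ : PrimeSpectrum (B ⧸ P.1))
    rw [Module.rankAtStalk_eq_finrank_of_free, Pi.natCast_apply, h] at h1
    simpa using h1
  haveI : Module.Free B C := Module.Free.of_basis e
  rw [← Module.finrank_mul_finrank K B C, Module.finrank_eq_card_basis e, Fintype.card_fin, mul_comm]

/-- The rank of a morphism of affine schemes, read on global sections. -/
theorem finrank_eq_rankAtStalk {X Y : Scheme.{u}} [IsAffine X] [IsAffine Y] (f : X ⟶ Y) [IsFinite f] [Flat f]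
    (p : PrimeSpectrum Γ(Y, ⊤)) :
    letI := f.appTop.hom.toAlgebra
    Module.rankAtStalk Γ(X, ⊤) p = f.finrank (Y.isoSpec.inv p) := by
  letI := f.appTop.hom.toAlgebra
  haveI : Module.Finite Γ(Y, ⊤) Γ(X, ⊤) := f.finite_appTop
  haveI : Module.Flat Γ(Y, ⊤) Γ(X, ⊤) := f.flat_appTop
  haveI : IsFinite (Spec.map (CommRingCat.ofHom (algebraMap Γ(Y, ⊤) Γ(X, ⊤)))) :=
    (IsFinite.SpecMap_iff _).mpr (RingHom.finite_algebraMap.mpr inferInstance)
  haveI : Flat (Spec.map (CommRingCat.ofHom (algebraMap Γ(Y, ⊤) Γ(X, ⊤)))) :=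
    Flat.SpecMap_iff.mpr (RingHom.flat_algebraMap_iff.2 inferInstance)
  rw [← Scheme.Hom.finrank_SpecMap_algebraMap Γ(Y, ⊤) Γ(X, ⊤) p]
  have h : IsPullback X.isoSpec.hom f (Spec.map (CommRingCat.ofHom (algebraMap Γ(Y, ⊤) Γ(X, ⊤))))
      Y.isoSpec.hom := IsPullback.of_horiz_isIso ⟨(Scheme.isoSpec_hom_naturality f)⟩
  rw [Scheme.Hom.finrank_of_isPullback _ _ _ _ h]
  congr 1
  show p = (Y.isoSpec.inv ≫ Y.isoSpec.hom) p
  rw [Iso.inv_hom_id]
  rfl

/-- Composition over a field. -/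
theorem finrank_comp_field {K : Type u} [Field K] {X Y : Scheme.{u}} (f : X ⟶ Y)
    (g : Y ⟶ Spec (CommRingCat.of K)) [IsFinite f] [Flat f] [IsFinite g] [Flat g] {a b : ℕ}
    (hf : ∀ y, f.finrank y = a) (hg : ∀ s, g.finrank s = b) (s : Spec (CommRingCat.of K)) :
    (f ≫ g).finrank s = a * b := by
  haveI : IsAffine Y := isAffine_of_isAffineHom g
  haveI : IsAffine X := isAffine_of_isAffineHom f
  let S := Spec (CommRingCat.of K)
  letI := f.appTop.hom.toAlgebra
  letI : Algebra K Γ(Y, ⊤) := ((Scheme.ΓSpecIso (CommRingCat.of K)).inv ≫ g.appTop).hom.toAlgebra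
  letI : Algebra K Γ(X, ⊤) := ((Scheme.ΓSpecIso (CommRingCat.of K)).inv ≫ (f ≫ g).appTop).hom.toAlgebra
  haveI : IsScalarTower K Γ(Y, ⊤) Γ(X, ⊤) := IsScalarTower.of_algebraMap_eq fun k => rfl
  haveI : Module.Finite Γ(Y, ⊤) Γ(X, ⊤) := f.finite_appTop
  haveI : Module.Flat Γ(Y, ⊤) Γ(X, ⊤) := f.flat_appTop
  have key : ∀ {W : Scheme.{u}} [IsAffine W] (c : W ⟶ Spec (CommRingCat.of K)) [IsFinite c] [Flat c]
      (s : Spec (CommRingCat.of K)),
      letI : Algebra K Γ(W, ⊤) := ((Scheme.ΓSpecIso (CommRingCat.of K)).inv ≫ c.appTop).hom.toAlgebra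
      Module.Finite K Γ(W, ⊤) ∧ c.finrank s = Module.finrank K Γ(W, ⊤) := by
    intro W _ c _ _ s
    letI : Algebra K Γ(W, ⊤) := ((Scheme.ΓSpecIso (CommRingCat.of K)).inv ≫ c.appTop).hom.toAlgebra
    have hc : c = W.isoSpec.hom ≫ Spec.map (CommRingCat.ofHom (algebraMap K Γ(W, ⊤))) := by
      show c = W.isoSpec.hom ≫ Spec.map ((Scheme.ΓSpecIso (CommRingCat.of K)).inv ≫ c.appTop)
      rw [Scheme.isoSpec_hom, Spec.map_comp, ← Scheme.toSpecΓ_naturality_assoc]
      simp
    have : IsFinite (Spec.map (CommRingCat.ofHom (algebraMap K Γ(W, ⊤)))) := by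
      rw [show Spec.map (CommRingCat.ofHom (algebraMap K Γ(W, ⊤))) = W.isoSpec.inv ≫ c by
        conv_rhs => rw [hc, Iso.inv_hom_id_assoc]]
      infer_instance
    haveI : Module.Finite K Γ(W, ⊤) := RingHom.finite_algebraMap.mp ((IsFinite.SpecMap_iff _).mp this)
    haveI : Flat (Spec.map (CommRingCat.ofHom (algebraMap K Γ(W, ⊤)))) :=
      Flat.SpecMap_iff.mpr (RingHom.flat_algebraMap_iff.2 inferInstance)
    refine ⟨inferInstance, ?_⟩
    conv_lhs => rw [hc]
    rw [Scheme.Hom.finrank_comp_left_of_isIso, Scheme.Hom.finrank_SpecMap_algebraMap,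
      Module.rankAtStalk_eq_finrank_of_free]
    rfl
  obtain ⟨hY, hgr⟩ := key g s
  obtain ⟨-, hfgr⟩ := key (f ≫ g) s
  haveI := hY
  rw [hfgr, finrank_tower (B := Γ(Y, ⊤)) (a := a) (fun p => (finrank_eq_rankAtStalk f p).trans (hf _)),
    ← hgr, hg]

/-- Degrees multiply under composition. -/
theorem isFinLocFreeOfDeg_comp {X Y Z : Scheme.{u}} {f : X ⟶ Y} {g : Y ⟶ Z} {a b : ℕ}
    (hf : Mor2.IsFinLocFreeOfDeg a f) (hg : Mor2.IsFinLocFreeOfDeg b g) :
    Mor2.IsFinLocFreeOfDeg (a * b) (f ≫ g) := by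
  obtain ⟨⟨hf1, hf2, hf3⟩, hfd⟩ := hf
  obtain ⟨⟨hg1, hg2, hg3⟩, hgd⟩ := hg
  refine ⟨⟨inferInstance, inferInstance, inferInstance⟩, fun z => ?_⟩
  let k := Scheme.fromSpecResidueField Z z
  obtain ⟨t, ht⟩ : ∃ t, k t = z := ⟨IsLocalRing.closedPoint _, Scheme.fromSpecResidueField_apply _ _⟩
  rw [← ht, ← Scheme.Hom.finrank_pullback_snd (f ≫ g) k t,
    ← Scheme.Hom.finrank_comp_left_of_isIso (pullbackRightPullbackFstIso g k f).hom,
    pullbackRightPullbackFstIso_hom_snd]
  refine finrank_comp_field _ _ (fun y => ?_) (fun s => ?_) t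
  · rw [Scheme.Hom.finrank_pullback_snd]; exact hfd _
  · rw [Scheme.Hom.finrank_pullback_snd]; exact hgd _

/-- Degrees are stable under base change. -/
theorem isFinLocFreeOfDeg_of_isPullback {P X Y Z : Scheme.{u}} {fst : P ⟶ X} {snd : P ⟶ Y} {f : X ⟶ Z}
    {g : Y ⟶ Z} (h : IsPullback fst snd f g) {a : ℕ} (hf : Mor2.IsFinLocFreeOfDeg a f) :
    Mor2.IsFinLocFreeOfDeg a snd := by
  obtain ⟨⟨hf1, hf2, hf3⟩, hfd⟩ := hf
  haveI := hf1; haveI := hf2
  refine ⟨⟨MorphismProperty.of_isPullback (P := @IsFinite) h hf1,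
    MorphismProperty.of_isPullback (P := @Flat) h hf2,
    MorphismProperty.of_isPullback (P := @LocallyOfFinitePresentation) h hf3⟩, fun y => ?_⟩
  rw [Scheme.Hom.finrank_of_isPullback fst snd f g h]
  exact hfd _

end Groth.Agent.H27SymProd
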