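/-
A finite locally free algebra of rank `|G|` with a `G`-action that is generically free has the base as invariants.
-/
import Mathlib

set_option autoImplicit false
set_option linter.style.haveILetI false

universe u

open TensorProduct

namespace Groth.Agent.H27SymProd

variable {R A : Type u} [CommRing R] [CommRing A] [Algebra R A] {G : Type u} [Group G] [Fintype G]

/-- Local case: a fixed element is a scalar. -/
theorem fixed_mem_range_of_isLocalRing [IsLocalRing R] (b : Module.Basis G R A) (act : G → (A →ₐ[R] A))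
    (hmul : ∀ g h a, act g (act h a) = act (h * g) a) {K : Type u} [Field K] (ψ : A →+* K)
    (hker : RingHom.ker (ψ.comp (algebraMap R A)) = IsLocalRing.maximalIdeal R)
    (hfree : Function.Injective fun g => ψ.comp (act g).toRingHom)
    {x : A} (hx : ∀ g, act g x = x) : x ∈ Set.range (algebraMap R A) := by
  classical
  let M : Matrix G G A := fun g i => act g (b i)
  let Mb : Matrix G G K := ψ.mapMatrix M
  -- the Dedekind determinant does not vanish
  have hMb : Mb.det ≠ 0 := by
    intro h0
    obtain ⟨v, hv, hvM⟩ := Matrix.exists_vecMul_eq_zero_iff.mpr h0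
    apply hv
    have hli : LinearIndependent K fun g => ((ψ.comp (act g).toRingHom : A →* K) : A → K) :=
      (linearIndependent_monoidHom A K).comp (fun g => (ψ.comp (act g).toRingHom : A →* K))
        fun g h e => hfree (RingHom.ext fun a => DFunLike.congr_fun e a)
    ext g
    refine Fintype.linearIndependent_iff.mp hli v ?_ g
    ext a
    simp only [Finset.sum_apply, Pi.smul_apply, smul_eq_mul, Pi.zero_apply]
    show ∑ g, v g * ψ (act g a) = 0
    calc ∑ g, v g * ψ (act g a)
        = ∑ g, v g * ∑ i, ψ (algebraMap R A (b.repr a i)) * ψ (act g (b i)) := by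
          refine Finset.sum_congr rfl fun g _ => ?_
          conv_lhs => rw [← b.sum_repr a]
          simp [Algebra.smul_def]
      _ = ∑ i, ψ (algebraMap R A (b.repr a i)) * ∑ g, v g * ψ (act g (b i)) := by
          simp only [Finset.mul_sum]
          rw [Finset.sum_comm]
          refine Finset.sum_congr rfl fun i _ => Finset.sum_congr rfl fun g _ => ?_
          ring
      _ = 0 := by
          refine Finset.sum_eq_zero fun i _ => ?_
          have := congrFun hvM i
          simp only [Matrix.vecMul, dotProduct, Pi.zero_apply] at this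
          rw [show ∑ g, v g * ψ (act g (b i)) = 0 from this, mul_zero]
  -- the determinant is a unit
  have hdet : IsUnit M.det := by
    set a := M.det
    let L : Matrix G G R := Algebra.leftMulMatrix b a
    let Lb : Matrix G G K := (ψ.comp (algebraMap R A)).mapMatrix L
    have hga : ∀ g, ψ (act g a) ≠ 0 := by
      intro g
      have hperm : M.map (act g) = M.submatrix (Equiv.mulRight g) id := by
        ext h i
        exact hmul g h (b i)
      have h1 : act g a = (Equiv.Perm.sign (Equiv.mulRight g) : A) * a := by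
        show act g M.det = _
        rw [AlgHom.map_det]
        show (M.map (act g)).det = _
        rw [hperm, Matrix.det_permute]
      rw [h1, map_mul]
      refine mul_ne_zero ?_ ?_
      · rcases Int.units_eq_one_or (Equiv.Perm.sign (Equiv.mulRight g)) with e | e <;> simp [e]
      · show ψ M.det ≠ 0
        rw [RingHom.map_det]
        exact hMb
    have hML : Mb * Lb = Matrix.diagonal (fun g => ψ (act g a)) * Mb := by
      ext g j
      rw [Matrix.mul_apply, Matrix.diagonal_mul]
      show ∑ i, ψ (act g (b i)) * ψ (algebraMap R A (L i j)) = ψ (act g a) * ψ (act g (b j))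
      rw [← map_mul, ← map_mul, ← b.sum_repr (a * b j)]
      simp [L, Algebra.leftMulMatrix_eq_repr_mul, Algebra.smul_def, mul_comm]
    have hLb : Lb.det ≠ 0 := by
      intro h0
      have := congrArg Matrix.det hML
      rw [Matrix.det_mul, Matrix.det_mul, h0, mul_zero, Matrix.det_diagonal] at this
      exact mul_ne_zero (Finset.prod_ne_zero_iff.mpr fun g _ => hga g) hMb this.symm
    have hL : IsUnit L.det := by
      by_contra hn
      have hm : L.det ∈ RingHom.ker (ψ.comp (algebraMap R A)) := hker ▸ hn
      exact hLb ((RingHom.map_det _ L).symm.trans hm)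
    have hu : IsUnit (LinearMap.toMatrix b b (Algebra.lmul R A a)) :=
      (Matrix.isUnit_iff_isUnit_det _).mpr hL
    have hbij : Function.Bijective (Algebra.lmul R A a) := by
      have hL' : IsUnit (Algebra.lmul R A a : Module.End R A) := by
        rw [← isUnit_map_iff (LinearMap.toMatrixAlgEquiv b)]
        exact hu
      exact (Module.End.isUnit_iff _).mp hL'
    obtain ⟨y, hy⟩ := hbij.2 1
    exact .of_mul_eq_one y hy
  -- compare coordinates with those of `1`
  let u : G → R := fun i => b.repr 1 i
  let r : G → R := fun i => b.repr x i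
  have hsys : M.mulVec (fun i => algebraMap R A (r i) - x * algebraMap R A (u i)) = 0 := by
    ext g
    have h1 : ∑ i, algebraMap R A (r i) * act g (b i) = x := by
      conv_rhs => rw [← hx g, ← b.sum_repr x]
      simp [r, Algebra.smul_def]
    have h2 : ∑ i, algebraMap R A (u i) * act g (b i) = 1 := by
      conv_rhs => rw [← map_one (act g), ← b.sum_repr (1 : A)]
      simp [u, Algebra.smul_def]
    simp only [Matrix.mulVec, dotProduct, Pi.zero_apply, M]
    calc ∑ i, act g (b i) * (algebraMap R A (r i) - x * algebraMap R A (u i))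
        = (∑ i, algebraMap R A (r i) * act g (b i)) - x * ∑ i, algebraMap R A (u i) * act g (b i) := by
          rw [Finset.mul_sum, ← Finset.sum_sub_distrib]
          exact Finset.sum_congr rfl fun i _ => by ring
      _ = 0 := by rw [h1, h2, mul_one, sub_self]
  have hzero : (fun i => algebraMap R A (r i) - x * algebraMap R A (u i)) = 0 := by
    have := congrArg M⁻¹.mulVec hsys
    rwa [Matrix.mulVec_mulVec, Matrix.nonsing_inv_mul _ hdet, Matrix.one_mulVec, Matrix.mulVec_zero] at this
  obtain ⟨i, hi⟩ : ∃ i, IsUnit (u i) := by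
    by_contra hn
    push Not at hn
    have h2 : ∑ i, algebraMap R A (u i) * b i = (1 : A) := by
      conv_rhs => rw [← b.sum_repr (1 : A)]
      simp [u, Algebra.smul_def]
    have := congrArg ψ h2
    rw [map_sum, map_one, Finset.sum_eq_zero] at this
    · exact zero_ne_one this
    intro i _
    have hm : u i ∈ RingHom.ker (ψ.comp (algebraMap R A)) := hker ▸ hn i
    rw [map_mul, show ψ (algebraMap R A (u i)) = 0 from hm, zero_mul]
  obtain ⟨w, hw⟩ := hi.exists_right_inv
  refine ⟨r i * w, ?_⟩
  rw [map_mul, sub_eq_zero.mp (congrFun hzero i), mul_assoc, ← map_mul, hw, map_one, mul_one]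

/-- A finite projective algebra of positive rank has a retraction onto the base. -/
theorem exists_retraction [Module.Finite R A] [Module.Projective R A]
    (hpos : ∀ p : PrimeSpectrum R, 0 < Module.rankAtStalk A p) :
    ∃ σ : A →ₗ[R] R, σ 1 = 1 := by
  let I : Ideal R := LinearMap.range (LinearMap.applyₗ (1 : A) : (A →ₗ[R] R) →ₗ[R] R)
  suffices h : I = ⊤ by
    obtain ⟨σ, hσ⟩ := (h ▸ Submodule.mem_top : (1 : R) ∈ I)
    exact ⟨σ, hσ⟩
  by_contra hI
  obtain ⟨m, hm, hIm⟩ := Ideal.exists_le_maximal I hI
  obtain ⟨n, f, g, -, -, hfg⟩ := Module.Finite.exists_comp_eq_id_of_projective R A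
  obtain ⟨Q, hQ⟩ := (PrimeSpectrum.rankAtStalk_pos_iff_mem_range_comap ⟨m, hm.isPrime⟩).mp (hpos _)
  have h1 : (1 : A) ∈ Q.asIdeal := by
    have e : f (g 1) = 1 := congrArg (fun l : A →ₗ[R] A => l 1) hfg
    rw [← e, f.pi_apply_eq_sum_univ]
    refine Ideal.sum_mem _ fun i _ => ?_
    rw [Algebra.smul_def]
    refine Ideal.mul_mem_right _ _ ?_
    show g 1 i ∈ Q.asIdeal.comap (algebraMap R A)
    rw [show Q.asIdeal.comap (algebraMap R A) = m from congrArg PrimeSpectrum.asIdeal hQ]
    exact hIm ⟨(LinearMap.proj i).comp g, rfl⟩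
  exact Q.isPrime.ne_top ((Ideal.eq_top_iff_one _).mpr h1)

theorem exists_annihilator_aux [Module.Finite R A] [Module.Projective R A]
    (hrank : ∀ p : PrimeSpectrum R, Module.rankAtStalk A p = Fintype.card G) (act : G → (A →ₐ[R] A))
    (hmul : ∀ g h a, act g (act h a) = act (h * g) a) {K : Type u} [Field K] (ψ : A →+* K)
    (hfree : Function.Injective fun g => ψ.comp (act g).toRingHom)
    (σ : A →ₗ[R] R) (hσ : σ 1 = 1) {x : A} (hx : ∀ g, act g x = x) (hσx : σ x = 0)
    (p : Ideal R) [p.IsPrime] (hp : p = RingHom.ker (ψ.comp (algebraMap R A)))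
    (R' : Type u) [CommRing R'] [IsLocalRing R'] [Algebra R R'] [IsLocalization.AtPrime R' p]
    (hfr : Module.finrank R' (R' ⊗[R] A) = Fintype.card G) :
    ∃ s : R, ψ (algebraMap R A s) ≠ 0 ∧ algebraMap R A s * x = 0 := by
  classical
  have hunit : ∀ s : p.primeCompl, IsUnit (ψ.comp (algebraMap R A) s) := fun s =>
    isUnit_iff_ne_zero.mpr (fun h => s.2 (hp ▸ h))
  letI : Algebra R K := (ψ.comp (algebraMap R A)).toAlgebra
  let φ : R' →ₐ[R] K := IsLocalization.liftAlgHom (M := p.primeCompl) (f := Algebra.ofId R K) hunit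
  let ψA : A →ₐ[R] K := { ψ with commutes' := fun _ => rfl }
  let ψ' : R' ⊗[R] A →ₐ[R] K := Algebra.TensorProduct.lift φ ψA fun _ _ => Commute.all _ _
  let act' : G → (R' ⊗[R] A →ₐ[R'] R' ⊗[R] A) := fun g => Algebra.TensorProduct.map (AlgHom.id R' R') (act g)
  have hact' : ∀ g r a, act' g (r ⊗ₜ a) = r ⊗ₜ[R] act g a := fun g r a =>
    Algebra.TensorProduct.map_tmul _ _ _ _
  have hψ' : ∀ g a, ψ' (act' g (1 ⊗ₜ a)) = ψ (act g a) := fun g a => by
    rw [hact']
    exact (Algebra.TensorProduct.lift_tmul φ ψA _ 1 (act g a)).trans (by rw [map_one, one_mul]; rfl)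
  haveI : Module.Free R' (R' ⊗[R] A) := Module.free_of_flat_of_isLocalRing
  have hcard : Fintype.card (Module.Free.ChooseBasisIndex R' (R' ⊗[R] A)) = Fintype.card G := by
    rw [← Module.finrank_eq_card_chooseBasisIndex, hfr]
  have hb : Module.Basis G R' (R' ⊗[R] A) :=
    (Module.Free.chooseBasis R' (R' ⊗[R] A)).reindex (Fintype.equivOfCardEq hcard)
  have hker : RingHom.ker (ψ'.toRingHom.comp (algebraMap R' (R' ⊗[R] A))) = IsLocalRing.maximalIdeal R' := by
    refine le_antisymm (IsLocalRing.le_maximalIdeal (RingHom.ker_ne_top _)) ?_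
    rw [← IsLocalization.AtPrime.map_eq_maximalIdeal p R', Ideal.map_le_iff_le_comap]
    intro r hr
    show ψ' (algebraMap R' (R' ⊗[R] A) (algebraMap R R' r)) = 0
    rw [← IsScalarTower.algebraMap_apply, AlgHom.commutes]
    exact (hp ▸ hr : r ∈ RingHom.ker (ψ.comp (algebraMap R A)))
  have hmem := fixed_mem_range_of_isLocalRing hb act' (fun g h a => by
      induction a using TensorProduct.induction_on with
      | zero => simp
      | tmul r a => rw [hact', hact', hact', hmul]
      | add a a' ha ha' => simp [ha, ha'])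
    ψ'.toRingHom hker (fun g h e => hfree (RingHom.ext fun a => by
      have := RingHom.congr_fun e ((1 : R') ⊗ₜ[R] a)
      exact (hψ' g a).symm.trans (this.trans (hψ' h a))))
    (x := (1 : R') ⊗ₜ[R] x) (fun g => by rw [hact', hx g])
  obtain ⟨c, hc⟩ := hmem
  let σ' : R' ⊗[R] A →ₗ[R'] R' :=
    (TensorProduct.AlgebraTensorModule.rid R R' R').toLinearMap ∘ₗ σ.baseChange R'
  have hσ' : ∀ (r : R') (a : A), σ' (r ⊗ₜ a) = σ a • r := fun r a => by simp [σ']
  have hc0 : c = 0 := by
    have h1 : σ' (algebraMap R' (R' ⊗[R] A) c) = c := by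
      rw [Algebra.TensorProduct.algebraMap_apply, hσ', hσ, one_smul]
      rfl
    rw [← h1, hc, hσ', hσx, zero_smul]
  have h0 : TensorProduct.mk R R' A 1 x = 0 := by
    show (1 : R') ⊗ₜ[R] x = 0
    rw [← hc, hc0, map_zero]
  haveI : IsLocalizedModule p.primeCompl (TensorProduct.mk R R' A 1) :=
    (isLocalizedModule_iff_isBaseChange p.primeCompl R' _).mpr (TensorProduct.isBaseChange R A R')
  obtain ⟨s, hs⟩ := (IsLocalizedModule.eq_zero_iff p.primeCompl (TensorProduct.mk R R' A 1)).mp h0
  refine ⟨s, fun h => s.2 (hp ▸ h), ?_⟩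
  rw [← Algebra.smul_def]
  exact hs

/-- Near a free point a fixed element is a scalar. -/
theorem exists_annihilator [Module.Finite R A] [Module.Projective R A]
    (hrank : ∀ p : PrimeSpectrum R, Module.rankAtStalk A p = Fintype.card G) (act : G → (A →ₐ[R] A))
    (hmul : ∀ g h a, act g (act h a) = act (h * g) a) {K : Type u} [Field K] (ψ : A →+* K)
    (hfree : Function.Injective fun g => ψ.comp (act g).toRingHom)
    (σ : A →ₗ[R] R) (hσ : σ 1 = 1) {x : A} (hx : ∀ g, act g x = x) (hσx : σ x = 0) :
    ∃ s : R, ψ (algebraMap R A s) ≠ 0 ∧ algebraMap R A s * x = 0 := by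
  obtain ⟨q, hq⟩ : ∃ q : PrimeSpectrum R, q.asIdeal = RingHom.ker (ψ.comp (algebraMap R A)) :=
    ⟨⟨_, RingHom.ker_isPrime _⟩, rfl⟩
  refine exists_annihilator_aux hrank act hmul ψ hfree σ hσ hx hσx q.asIdeal hq
    (Localization.AtPrime q.asIdeal) ?_
  exact (Module.rankAtStalk_eq_finrank_tensorProduct q).symm.trans (hrank q)

/-- If sections vanishing near all free points vanish, the invariants are the base. -/
theorem fixed_mem_range [Module.Finite R A] [Module.Projective R A]
    (hrank : ∀ p : PrimeSpectrum R, Module.rankAtStalk A p = Fintype.card G) (act : G → (A →ₐ[R] A))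
    (hmul : ∀ g h a, act g (act h a) = act (h * g) a)
    (hsep : ∀ y : A, (∀ (K : Type u) [Field K] (ψ : A →+* K),
        Function.Injective (fun g => ψ.comp (act g).toRingHom) →
        ∃ s : R, ψ (algebraMap R A s) ≠ 0 ∧ algebraMap R A s * y = 0) → y = 0)
    {x : A} (hx : ∀ g, act g x = x) : x ∈ Set.range (algebraMap R A) := by
  obtain ⟨σ, hσ⟩ := exists_retraction (R := R) (A := A) fun p => by
    rw [hrank]; exact Fintype.card_pos
  refine ⟨σ x, (sub_eq_zero.mp ?_).symm⟩
  refine hsep _ fun K _ ψ hψ => ?_
  refine exists_annihilator hrank act hmul ψ hψ σ hσ (fun g => by rw [map_sub, hx g, AlgHom.commutes]) ?_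
  rw [map_sub, Algebra.algebraMap_eq_smul_one, map_smul, hσ, smul_eq_mul, mul_one, sub_self]

end Groth.Agent.H27SymProd
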