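/-
A finite locally free invariant morphism of degree `|G|`, free off effective Cartier divisors, is the quotient.
-/
import Groth.Agent.H27SymProd.Invariants
import Groth.Agent.H27SymProd.DegComp
import Groth.Agent.H18Quot.Criterion
import Groth.Agent.H06Desc.SchDominant
import Groth.Agent.H29Blow.Basic

set_option autoImplicit false
set_option linter.style.haveILetI false
set_option backward.isDefEq.respectTransparency false
set_option backward.isDefEq.respectTransparency.types false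

universe u

open CategoryTheory CategoryTheory.Limits AlgebraicGeometry TopologicalSpace

namespace Groth.Agent.H27SymProd

theorem res_res {X : Scheme.{u}} {A B C : X.Opens} (h : B ≤ A) (h' : C ≤ B) (a : Γ(X, A)) :
    X.presheaf.map (homOfLE h').op (X.presheaf.map (homOfLE h).op a) = X.presheaf.map (homOfLE (h'.trans h)).op a := by
  rw [← CommRingCat.comp_apply, ← Functor.map_comp]
  rfl

/-- A section vanishing near every point off finitely many effective Cartier divisors vanishes. -/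
theorem eq_zero_of_forall_off_cartier {X : Scheme.{u}} {κ : Type*} (s : Finset κ)
    (E : κ → X.IdealSheafData) (hE : ∀ k ∈ s, BlowUp.IsEffCartierIdeal (E k)) {W : X.Opens} (a : Γ(X, W))
    (h : ∀ x ∈ W, (∀ k ∈ s, x ∉ (E k).support) →
      ∃ (V : X.Opens) (i : V ≤ W), x ∈ V ∧ X.presheaf.map (homOfLE i).op a = 0) : a = 0 := by
  classical
  induction s using Finset.induction_on generalizing W with
  | empty =>
    choose V i hV hz using fun x : W => h x x.2 (fun k hk => absurd hk (Finset.notMem_empty k))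
    refine TopCat.Sheaf.eq_of_locally_eq' X.sheaf V W (fun x => homOfLE (i x))
      (fun x hx => Opens.mem_iSup.mpr ⟨⟨x, hx⟩, hV _⟩) a 0 fun x => ?_
    rw [map_zero]
    exact hz x
  | insert k s hk ih =>
    refine ih (fun j hj => hE j (Finset.mem_insert_of_mem hj)) a fun x hxW hxs => ?_
    obtain ⟨U, hxU, hUW, e, he, heU⟩ := H29Blow.exists_gen (hE k (Finset.mem_insert_self k s)) (W := W) hxW
    -- shrink to the open where the other divisors are absent
    let O : X.Opens := ⟨⋂ j ∈ s, ((E j).support : Set X)ᶜ,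
      isOpen_biInter_finset fun j _ => (E j).support.isClosed.isOpen_compl⟩
    refine ⟨U.1 ⊓ O, inf_le_left.trans hUW, ⟨hxU, ?_⟩, ?_⟩
    · exact Set.mem_iInter₂.mpr fun j hj => hxs j hj
    set V : X.Opens := U.1 ⊓ O
    obtain ⟨_, ⟨U', hU', rfl⟩, hxU', hU'V⟩ := X.isBasis_affineOpens.exists_subset_of_mem_open
      (show x ∈ (U.1 : Set X) from hxU) U.1.2
    refine TopCat.Sheaf.eq_of_locally_eq' X.sheaf
      (fun V' : {V' : X.affineOpens // V'.1 ≤ V} => V'.1.1) V (fun V' => homOfLE V'.2)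
      (fun y hy => ?_) _ 0 fun V' => ?_
    · obtain ⟨_, ⟨U'', hU'', rfl⟩, hyU'', hU''V⟩ :=
        X.isBasis_affineOpens.exists_subset_of_mem_open hy V.2
      exact Opens.mem_iSup.mpr ⟨⟨⟨U'', hU''⟩, hU''V⟩, hyU''⟩
    rw [map_zero]
    have hle : V'.1.1 ≤ U.1 := V'.2.trans inf_le_left
    refine H29Blow.eq_zero_of_res_basicOpen_eq_zero (U := V'.1) (e := X.presheaf.map (homOfLE hle).op e)
      (H29Blow.res_mem_nonZeroDivisors (W := V'.1) hle he) ?_
    choose V₁ i₁ hV₁ hz₁ using fun y : X.basicOpen (X.presheaf.map (homOfLE hle).op e) =>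
      h y (hUW (hle (X.basicOpen_le _ y.2))) (by
        intro j hj
        rcases Finset.mem_insert.mp hj with rfl | hj
        · refine H29Blow.basicOpen_disjoint_support (U := U) (heU ▸ Ideal.mem_span_singleton_self e) ?_
          exact ((Scheme.basicOpen_res X e (homOfLE hle).op).le y.2).2
        · have hy : (y : X) ∈ V := V'.2 (X.basicOpen_le _ y.2)
          exact Set.mem_iInter₂.mp hy.2 j hj)
    refine TopCat.Sheaf.eq_of_locally_eq' X.sheaf
      (fun y : X.basicOpen (X.presheaf.map (homOfLE hle).op e) => V₁ y ⊓ X.basicOpen (X.presheaf.map (homOfLE hle).op e))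
      _ (fun y => homOfLE inf_le_right) (fun y hy => Opens.mem_iSup.mpr ⟨⟨y, hy⟩, hV₁ _, hy⟩) _ 0 fun y => ?_
    rw [map_zero]
    have e1 := congrArg (fun t => X.presheaf.map
      (homOfLE (inf_le_left : V₁ y ⊓ X.basicOpen (X.presheaf.map (homOfLE hle).op e) ≤ V₁ y)).op t) (hz₁ y)
    rw [map_zero, res_res] at e1
    show X.presheaf.map (homOfLE inf_le_right).op (X.presheaf.map (homOfLE _).op
      (X.presheaf.map (homOfLE _).op (X.presheaf.map (homOfLE _).op a))) = 0
    rw [res_res, res_res, res_res]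
    exact e1

/-- Morphisms from an affine scheme into an affine open are determined by the map on sections. -/
theorem hom_eq_of_appLE {Y X : Scheme.{u}} [IsAffine Y] {U : X.Opens} (hU : IsAffineOpen U) (a b : Y ⟶ X)
    (ha : ⊤ ≤ a ⁻¹ᵁ U) (hb : ⊤ ≤ b ⁻¹ᵁ U) (h : a.appLE U ⊤ ha = b.appLE U ⊤ hb) : a = b := by
  have h1 := IsAffineOpen.SpecMap_appLE_fromSpec a hU (isAffineOpen_top Y) ha
  have h2 := IsAffineOpen.SpecMap_appLE_fromSpec b hU (isAffineOpen_top Y) hb
  rw [h, h2, IsAffineOpen.fromSpec_top] at h1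
  exact ((cancel_epi _).mp h1).symm

/-- Composites agreeing on sections after a monomorphism agree on sections. -/
theorem appLE_comp_congr {Y X : Scheme.{u}} (a : Y ⟶ X) (b c : X ⟶ X) {U : X.Opens} (hb : U ≤ b ⁻¹ᵁ U)
    (hc : U ≤ c ⁻¹ᵁ U) (ha : ⊤ ≤ a ⁻¹ᵁ U) {R : CommRingCat.{u}} (e : Γ(Y, ⊤) ⟶ R) [Mono e]
    (h : ∀ t, e ((a.appLE U ⊤ ha) (b.appLE U U hb t)) = e ((a.appLE U ⊤ ha) (c.appLE U U hc t))) :
    (a ≫ b).appLE U ⊤ (ha.trans (a.preimage_mono hb)) = (a ≫ c).appLE U ⊤ (ha.trans (a.preimage_mono hc)) := by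
  rw [← cancel_mono e, ← Scheme.Hom.appLE_comp_appLE a b U U ⊤ hb ha,
    ← Scheme.Hom.appLE_comp_appLE a c U U ⊤ hc ha]
  ext t
  exact h t

/-- A section with vanishing germ value is zero in the residue field. -/
theorem evaluation_zero {X : Scheme.{u}} {x : X} {U : X.Opens} (hxU : x ∈ U) (b : Γ(X, U))
    (hxa : ⊤ ≤ (X.fromSpecResidueField x) ⁻¹ᵁ U) (hn : ¬ IsUnit (X.presheaf.germ U x hxU b)) :
    (Scheme.ΓSpecIso (X.residueField x)).hom ((X.fromSpecResidueField x).appLE U ⊤ hxa b) = 0 := by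
  have hbot : (Spec (X.residueField x)).basicOpen ((X.fromSpecResidueField x).appLE U ⊤ hxa b) = ⊥ := by
    rw [Scheme.basicOpen_appLE]
    refine TopologicalSpace.Opens.ext (Set.eq_empty_iff_forall_notMem.mpr fun z hz => ?_)
    have hz' : (X.fromSpecResidueField x) z ∈ X.basicOpen b := hz.2
    rw [Scheme.fromSpecResidueField_apply, Scheme.mem_basicOpen _ _ _ hxU] at hz'
    exact hn hz'
  have h := basicOpen_eq_bot_iff (X := Spec (X.residueField x))
    ((X.fromSpecResidueField x).appLE U ⊤ hxa b)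
  rw [h.mp hbot, map_zero]

variable {G : Type u} [Group G] [Fintype G] {X H : Scheme.{u}}

/-- A finite locally free invariant morphism of degree `|G|`, free off effective Cartier divisors, is the
quotient. -/
theorem isQuot_of_finLocFree (ρ : G →* Aut X) (p : X ⟶ H) (hinv : ∀ g, (ρ g).hom ≫ p = p)
    (hp : Mor2.IsFinLocFreeOfDeg (Fintype.card G) p) {κ : Type*} (s : Finset κ) (E : κ → X.IdealSheafData)
    (hE : ∀ k ∈ s, BlowUp.IsEffCartierIdeal (E k))
    (hfree : ∀ x : X, (∀ k ∈ s, x ∉ (E k).support) →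
      Function.Injective fun g => X.fromSpecResidueField x ≫ (ρ g).hom) :
    SGA1.IsQuot ρ p := by
  classical
  obtain ⟨⟨hfin, hflat, hlfp⟩, hdeg⟩ := hp
  haveI := hfin; haveI := hflat; haveI := hlfp
  haveI : Surjective p := by
    rw [← Scheme.Hom.one_le_finrank_iff_surjective]
    intro y
    rw [hdeg]
    exact Fintype.card_pos
  refine H18Quot.isQuot_of_basis ρ p hinv (fun V => IsAffineOpen V) (fun U y hy => ?_)
    (fun V _ => H06Desc.app_injective_of_flat_surjective p V) (fun W hW t ht => ?_)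
  · obtain ⟨_, ⟨V, hV, rfl⟩, hyV, hVU⟩ := H.isBasis_affineOpens.exists_subset_of_mem_open hy U.2
    exact ⟨V, hV, hyV, hVU⟩
  have hU : IsAffineOpen (p ⁻¹ᵁ W) := hW.preimage p
  letI : Algebra Γ(H, W) Γ(X, p ⁻¹ᵁ W) := (p.app W).hom.toAlgebra
  let act : G → (Γ(X, p ⁻¹ᵁ W) →ₐ[Γ(H, W)] Γ(X, p ⁻¹ᵁ W)) := fun g =>
    { ((ρ g).hom.appLE (p ⁻¹ᵁ W) (p ⁻¹ᵁ W) (SGA1.preimage_le_of_inv ρ p hinv g W)).hom with
      commutes' := fun r => H18Quot.invariant_app ρ p hinv W r g }
  have hmul : ∀ g h a, act g (act h a) = act (h * g) a := fun g h a => by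
    show ((ρ g).hom.appLE _ _ _).hom (((ρ h).hom.appLE _ _ _).hom a) = ((ρ (h * g)).hom.appLE _ _ _).hom a
    rw [← CommRingCat.comp_apply, Scheme.Hom.appLE_comp_appLE]
    simp only [map_mul]
    rfl
  haveI : Module.Finite Γ(H, W) Γ(X, p ⁻¹ᵁ W) := p.finite_app W hW
  have hflat' : (p.app W).hom.Flat := by
    rw [Scheme.Hom.app_eq_appLE]
    exact p.flat_appLE hW hU le_rfl
  haveI : Module.Flat Γ(H, W) Γ(X, p ⁻¹ᵁ W) := hflat'
  haveI : Algebra.FinitePresentation Γ(H, W) Γ(X, p ⁻¹ᵁ W) := by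
    have h := LocallyOfFinitePresentation.finitePresentation_appLE p hW hU le_rfl
    rw [← Scheme.Hom.app_eq_appLE] at h
    exact h
  haveI := Module.FinitePresentation.of_finite_of_finitePresentation (R := Γ(H, W)) (S := Γ(X, p ⁻¹ᵁ W))
  haveI : Module.Projective Γ(H, W) Γ(X, p ⁻¹ᵁ W) := Module.Flat.projective_of_finitePresentation
  have hrank : ∀ P : PrimeSpectrum Γ(H, W), Module.rankAtStalk Γ(X, p ⁻¹ᵁ W) P = Fintype.card G := by
    intro P
    haveI : IsFinite (Spec.map (p.app W)) := (IsFinite.SpecMap_iff _).mpr (p.finite_app W hW)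
    haveI : Flat (Spec.map (p.app W)) := Flat.SpecMap_iff.mpr hflat'
    rw [← Scheme.Hom.finrank_SpecMap_algebraMap Γ(H, W) Γ(X, p ⁻¹ᵁ W) P]
    show (Spec.map (p.app W)).finrank P = _
    rw [Scheme.Hom.finrank_of_isPullback hU.fromSpec (Spec.map (p.app W)) p hW.fromSpec ?_]
    · exact hdeg _
    refine (IsOpenImmersion.isPullback _ _ _ _ ?_ ?_).flip
    · rw [Scheme.Hom.app_eq_appLE, IsAffineOpen.SpecMap_appLE_fromSpec]
    · rw [IsAffineOpen.opensRange_fromSpec, IsAffineOpen.opensRange_fromSpec]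
  refine fixed_mem_range hrank act hmul (fun y hy => ?_) (x := t) ht
  refine eq_zero_of_forall_off_cartier s E hE y fun x hxW hxs => ?_
  have hxa : ⊤ ≤ (X.fromSpecResidueField x) ⁻¹ᵁ (p ⁻¹ᵁ W) := fun z _ => by
    show (X.fromSpecResidueField x) z ∈ p ⁻¹ᵁ W
    rw [Scheme.fromSpecResidueField_apply]; exact hxW
  let ψ : Γ(X, p ⁻¹ᵁ W) →+* X.residueField x :=
    ((X.fromSpecResidueField x).appLE (p ⁻¹ᵁ W) ⊤ hxa ≫ (Scheme.ΓSpecIso (X.residueField x)).hom).hom
  obtain ⟨r, hr, hry⟩ := hy (X.residueField x) ψ fun g h e => by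
    refine hfree x hxs ?_
    have e' := appLE_comp_congr (X.fromSpecResidueField x) (ρ g).hom (ρ h).hom
      (U := p ⁻¹ᵁ W) (SGA1.preimage_le_of_inv ρ p hinv g W) (SGA1.preimage_le_of_inv ρ p hinv h W) hxa
      (Scheme.ΓSpecIso (X.residueField x)).hom (fun a => RingHom.congr_fun e a)
    exact hom_eq_of_appLE hU _ _ _ _ e'
  refine ⟨X.basicOpen ((p.app W).hom r), X.basicOpen_le _, ?_, ?_⟩
  · rw [Scheme.mem_basicOpen _ _ _ hxW]
    by_contra hn
    apply hr
    show ψ ((p.app W).hom r) = 0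
    exact evaluation_zero hxW _ hxa hn
  · set b := (p.app W).hom r
    have hu : IsUnit (X.presheaf.map (homOfLE (X.basicOpen_le b)).op b) :=
      RingedSpace.isUnit_res_basicOpen _ b
    have := congrArg (fun t => X.presheaf.map (homOfLE (X.basicOpen_le b)).op t) hry
    simp only [map_mul, map_zero] at this
    exact (hu.mul_right_eq_zero).mp this

end Groth.Agent.H27SymProd
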