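/-
The sum of the tautological points: the map from a fibre power of a smooth curve to the scheme of divisors.
-/
import Groth.Prelude.Def_SymProd
import Groth.Agent.H27CurveDiv.Smooth
import Groth.Agent.H27SymProd.DegComp

set_option autoImplicit false
set_option linter.style.haveILetI false
set_option backward.isDefEq.respectTransparency false
set_option backward.isDefEq.respectTransparency.types false

universe u

open CategoryTheory CategoryTheory.Limits AlgebraicGeometry
open H29Blow

namespace Groth.Agent.H27SymProd

variable {C S : Scheme.{u}} (f : C ⟶ S)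

/-- The fibre power over the base. -/
noncomputable abbrev powOver (n : ℕ) : Over S := Over.mk (WidePullback.base (fun _ : Fin n => f))

/-- The graph of the `i`-th projection. -/
noncomputable abbrev tautGraph {n : ℕ} (i : Fin n) : (PicF.XT f (powOver f n)).IdealSheafData :=
  HilbD.secGraph f (powOver f n) (WidePullback.π (fun _ : Fin n => f) i) (WidePullback.π_arrow (fun _ : Fin n => f) i)

/-- The sum of the tautological points. -/
noncomputable def tautIdeal (n : ℕ) : (PicF.XT f (powOver f n)).IdealSheafData :=
  ∏ i : Fin n, tautGraph f i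

/-- Pulling back respects finite products. -/
theorem pull_prod {ι : Type*} (s : Finset ι) {T T' : Over S} (g : T' ⟶ T)
    (I : ι → (PicF.XT f T).IdealSheafData) :
    HilbD.pull f g (∏ i ∈ s, I i) = ∏ i ∈ s, HilbD.pull f g (I i) := by
  classical
  induction s using Finset.induction_on with
  | empty =>
    rw [Finset.prod_empty, Finset.prod_empty, H27HilbOne.pull_eq_comap, Scheme.IdealSheafData.one_eq_top,
      Scheme.IdealSheafData.comap_top, Scheme.IdealSheafData.one_eq_top]
  | insert a s ha ih =>
    rw [Finset.prod_insert ha, Finset.prod_insert ha, H27HilbOne.pull_eq_comap, comap_mul,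
      ← H27HilbOne.pull_eq_comap, ← H27HilbOne.pull_eq_comap, ih]

/-- The empty closed subscheme has degree zero. -/
theorem isFinLocFreeOfDeg_top {A B : Scheme.{u}} (p : A ⟶ B) :
    Mor2.IsFinLocFreeOfDeg 0 ((⊤ : A.IdealSheafData).subschemeι ≫ p) := by
  haveI : IsEmpty (⊤ : A.IdealSheafData).subscheme := by
    refine ⟨fun z => ?_⟩
    have hz := Set.mem_range_self (f := (⊤ : A.IdealSheafData).subschemeι) z
    rw [Scheme.IdealSheafData.range_subschemeι, Scheme.IdealSheafData.support_top] at hz
    exact hz
  refine ⟨⟨inferInstance, inferInstance, inferInstance⟩, fun y => ?_⟩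
  set q := (⊤ : A.IdealSheafData).subschemeι ≫ p
  set k := Scheme.fromSpecResidueField B y
  obtain ⟨z, hz⟩ : ∃ z, k z = y := ⟨IsLocalRing.closedPoint _, Scheme.fromSpecResidueField_apply _ _⟩
  rw [← hz, ← Scheme.Hom.finrank_pullback_snd q k z]
  by_contra h
  have : Surjective (pullback.snd q k) := by
    rw [← Scheme.Hom.one_le_finrank_iff_surjective]
    intro z'
    rw [Subsingleton.elim (α := PrimeSpectrum _) z' z]
    exact Nat.one_le_iff_ne_zero.mpr h
  obtain ⟨w, -⟩ := this.surj z
  exact IsEmpty.false (pullback.fst q k w)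

variable [SmoothOfRelativeDimension 1 f] [IsSeparated f]

theorem isFinLocFreeOfDeg_tautIdeal (n : ℕ) :
    Mor2.IsFinLocFreeOfDeg n ((tautIdeal f n).subschemeι ≫ PicF.XTproj f (powOver f n)) := by
  classical
  haveI := H27CurveDiv.smooth_XTproj f (powOver f n)
  suffices h : ∀ s : Finset (Fin n), Mor2.IsFinLocFreeOfDeg s.card
      ((∏ i ∈ s, tautGraph f i).subschemeι ≫ PicF.XTproj f (powOver f n)) by
    have := h Finset.univ
    rw [Finset.card_univ, Fintype.card_fin] at this
    exact this
  intro s
  induction s using Finset.induction_on with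
  | empty => exact isFinLocFreeOfDeg_top _
  | insert a s ha ih =>
    rw [Finset.prod_insert ha, Finset.card_insert_of_notMem ha, Nat.add_comm]
    exact H27CurveDiv.finLocFreeOfDeg_mul (PicF.XTproj f (powOver f n))
      (H27HilbOne.graphObj f (powOver f n) (WidePullback.π (fun _ : Fin n => f) a)
        (WidePullback.π_arrow (fun _ : Fin n => f) a)).2 ih

/-- The sum of the tautological points as a member of `Hilb^n`. -/
noncomputable def tautObj (n : ℕ) : HilbD.Obj f n (powOver f n) :=
  ⟨tautIdeal f n, isFinLocFreeOfDeg_tautIdeal f n⟩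

omit [SmoothOfRelativeDimension 1 f] [IsSeparated f] in
/-- Forgetting the last factor. -/
noncomputable def restr (n : ℕ) : powOver f (n + 1) ⟶ powOver f n :=
  Over.homMk (WidePullback.lift (WidePullback.base _) (fun i => WidePullback.π _ i.castSucc)
    (fun i => WidePullback.π_arrow (fun _ : Fin (n + 1) => f) i.castSucc)) (WidePullback.lift_base _ _ _ _)

omit [SmoothOfRelativeDimension 1 f] [IsSeparated f] in
theorem restr_π (n : ℕ) (i : Fin n) :
    (restr f n).left ≫ WidePullback.π (fun _ : Fin n => f) i = WidePullback.π (fun _ : Fin (n + 1) => f) i.castSucc :=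
  WidePullback.lift_π _ _ _ _ i

omit [SmoothOfRelativeDimension 1 f] [IsSeparated f] in
theorem isPullback_restr (n : ℕ) :
    IsPullback (restr f n).left (WidePullback.π (fun _ : Fin (n + 1) => f) (Fin.last n))
      (WidePullback.base (fun _ : Fin n => f)) f := by
  have hb : (restr f n).left ≫ WidePullback.base (fun _ : Fin n => f) =
      WidePullback.base (fun _ : Fin (n + 1) => f) := Over.w (restr f n)
  refine IsPullback.of_isLimit' ⟨by rw [hb, WidePullback.π_arrow]⟩ ?_
  refine PullbackCone.IsLimit.mk _
    (fun s => WidePullback.lift (s.snd ≫ f)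
      (Fin.lastCases s.snd (fun i => s.fst ≫ WidePullback.π _ i))
      (fun i => by
        induction i using Fin.lastCases with
        | last => simp
        | cast i => simp [Category.assoc, WidePullback.π_arrow, s.condition]))
    (fun s => ?_) (fun s => ?_) (fun s m h₁ h₂ => ?_)
  · apply WidePullback.hom_ext
    · intro i
      rw [Category.assoc, restr_π, WidePullback.lift_π]
      simp
    · rw [Category.assoc, hb, WidePullback.lift_base, s.condition]
  · rw [WidePullback.lift_π]; simp
  · apply WidePullback.hom_ext
    · intro i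
      rw [WidePullback.lift_π]
      induction i using Fin.lastCases with
      | last => simpa using h₂
      | cast i => simp only [Fin.lastCases_castSucc]; rw [← restr_π, ← Category.assoc, h₁]
    · rw [WidePullback.lift_base, ← WidePullback.π_arrow (fun _ : Fin (n + 1) => f) (Fin.last n),
        ← Category.assoc, h₂]

theorem tautIdeal_succ (n : ℕ) :
    tautIdeal f (n + 1) = HilbD.pull f (restr f n) (tautIdeal f n) * tautGraph f (Fin.last n) := by
  rw [tautIdeal, Fin.prod_univ_castSucc, tautIdeal, pull_prod]
  congr 1
  refine Finset.prod_congr rfl fun i _ => ?_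
  rw [tautGraph, tautGraph, H27HilbOne.pull_secGraph]
  congr 1
  exact (restr_π f n i).symm

/-- The classifying map of the sum of the tautological points is finite locally free of degree `n!`. -/
theorem finLocFree_classify : ∀ (n : ℕ) (_ : ∀ e, e < n → HilbD.Representable f e) (H : Over S)
    (Z : HilbD.Obj f n H) (_ : HilbD.IsUniversal f n H Z) (φ : powOver f n ⟶ H)
    (_ : HilbD.pull f φ Z.1 = tautIdeal f n), Mor2.IsFinLocFreeOfDeg (Nat.factorial n) φ.left := by
  intro n
  induction n with
  | zero =>
    intro _ H Z hZ φ _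
    haveI := H27CurveDiv.isIso_hom_of_deg_zero f H Z hZ
    haveI : IsIso (WidePullback.base (fun _ : Fin 0 => f)) := by
      refine ⟨WidePullback.lift (𝟙 S) (fun i => i.elim0) (fun i => i.elim0), ?_, WidePullback.lift_base _ _ _ _⟩
      apply WidePullback.hom_ext
      · intro i; exact i.elim0
      · rw [Category.assoc, WidePullback.lift_base, Category.comp_id, Category.id_comp]
    haveI : IsIso (φ.left ≫ H.hom) := by
      rw [Over.w φ]
      show IsIso (WidePullback.base (fun _ : Fin 0 => f))
      infer_instance
    haveI : IsIso φ.left := IsIso.of_isIso_comp_right φ.left H.hom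
    exact H27HilbOne.isFinLocFreeOfDeg_one_of_isIso _
  | succ n ih =>
    intro hrep H' Z' hZ' φ hφ
    obtain ⟨H, Z, hZ⟩ := hrep n (Nat.lt_succ_self n)
    obtain ⟨ψ, hψ, -⟩ := hZ (powOver f n) (tautObj f n)
    have hdeg := ih (fun e he => hrep e (he.trans (Nat.lt_succ_self n))) H Z hZ ψ hψ
    let T : Over S := Over.mk (pullback.fst H.hom f ≫ H.hom)
    let pr : T ⟶ H := Over.homMk (pullback.fst H.hom f) rfl
    haveI := H27CurveDiv.smooth_XTproj f T
    have hsum := H27CurveDiv.finLocFreeOfDeg_mul (PicF.XTproj f T) (H27HilbOps.pullObj f pr Z).2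
      (H27HilbOne.graphObj f T (pullback.snd H.hom f) pullback.condition.symm).2
    obtain ⟨m, hm, -⟩ := hZ' T ⟨_, hsum⟩
    have hmd := H27CurveDiv.addPoint_finLocFree f n H Z hZ H' Z' hZ' m hm
    have hw : ((restr f n).left ≫ ψ.left) ≫ H.hom = WidePullback.π _ (Fin.last n) ≫ f := by
      rw [Category.assoc, Over.w ψ, WidePullback.π_arrow]
      exact Over.w (restr f n)
    let a : powOver f (n + 1) ⟶ T := Over.homMk
      (pullback.lift ((restr f n).left ≫ ψ.left) (WidePullback.π _ (Fin.last n)) hw) (by
        show pullback.lift _ _ hw ≫ pullback.fst H.hom f ≫ H.hom = _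
        rw [pullback.lift_fst_assoc, hw, WidePullback.π_arrow]
        rfl)
    have hpr : a ≫ pr = restr f n ≫ ψ := Over.OverMorphism.ext (pullback.lift_fst _ _ _)
    have hφa : φ = a ≫ m := (hZ' (powOver f (n + 1)) (tautObj f (n + 1))).unique hφ (by
      show HilbD.pull f (a ≫ m) Z'.1 = tautIdeal f (n + 1)
      rw [H27HilbOps.pull_comp, hm, H27HilbOne.pull_eq_comap, comap_mul, ← H27HilbOne.pull_eq_comap,
        ← H27HilbOne.pull_eq_comap, tautIdeal_succ]
      congr 1
      · show HilbD.pull f a (HilbD.pull f pr Z.1) = _
        rw [← H27HilbOps.pull_comp, hpr, H27HilbOps.pull_comp, hψ]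
        rfl
      · show HilbD.pull f a (HilbD.secGraph f T (pullback.snd H.hom f) pullback.condition.symm) = _
        rw [H27HilbOne.pull_secGraph]
        congr 1
        exact pullback.lift_snd _ _ _)
    have hsq : IsPullback (restr f n).left a.left ψ.left (pullback.fst H.hom f) := by
      refine IsPullback.of_bot (v₂₁ := pullback.snd H.hom f) ?_ ?_ (IsPullback.of_hasPullback H.hom f)
      · show IsPullback (restr f n).left (pullback.lift _ _ hw ≫ pullback.snd H.hom f) (ψ.left ≫ H.hom) f
        rw [pullback.lift_snd, Over.w ψ]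
        exact isPullback_restr f n
      · show _ = pullback.lift _ _ hw ≫ pullback.fst H.hom f
        rw [pullback.lift_fst]
    rw [hφa, Nat.factorial_succ, mul_comm]
    exact isFinLocFreeOfDeg_comp (isFinLocFreeOfDeg_of_isPullback hsq hdeg) hmd

end Groth.Agent.H27SymProd
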