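/-
The scheme of divisors of degree `n` of a smooth curve is the `n`-th symmetric power.
-/
import Groth.Agent.H27SymProd.HilbCurve
import Groth.Agent.H27SymProd.FreeQuot
import Groth.Agent.H28Vert.IdealProd

set_option autoImplicit false
set_option linter.style.haveILetI false
set_option backward.isDefEq.respectTransparency false
set_option backward.isDefEq.respectTransparency.types false

universe u

open CategoryTheory CategoryTheory.Limits AlgebraicGeometry
open H29Blow

namespace Groth.Agent.H27SymProd

theorem isEffCartier_comap_of_iso {X Y : Scheme.{u}} (e : X ⟶ Y) [IsIso e] {I : Y.IdealSheafData}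
    (hI : BlowUp.IsEffCartierIdeal I) : BlowUp.IsEffCartierIdeal (I.comap e) := by
  intro x
  obtain ⟨U, hxU, a, ha, hIa⟩ := hI (e x)
  refine ⟨⟨e ⁻¹ᵁ U.1, U.2.preimage e⟩, hxU, (e.app U.1).hom a, ?_, ?_⟩
  · have hb : Function.Bijective (e.app U.1).hom := ConcreteCategory.bijective_of_isIso (e.app U.1)
    refine mem_nonZeroDivisors_iff_right.2 fun y hy => ?_
    obtain ⟨y, rfl⟩ := hb.2 y
    rw [← map_mul] at hy
    rw [(mem_nonZeroDivisors_iff_right.1 ha) y (hb.1 (hy.trans (map_zero _).symm)), map_zero]
  · rw [H29Blow.ideal_comap I e U ⟨e ⁻¹ᵁ U.1, U.2.preimage e⟩ le_rfl, hIa, Ideal.map_span, Set.image_singleton,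
      Scheme.Hom.appLE_eq_app]

variable {C S : Scheme.{u}} (f : C ⟶ S)

/-- A permutation of the factors, over the base. -/
noncomputable def permOver (n : ℕ) (σ : Equiv.Perm (Fin n)) : powOver f n ⟶ powOver f n :=
  Over.homMk (SymProd.permHom f n σ) (SymProd.permHom_base f n σ)

/-- The graph morphism of the `j`-th projection. -/
noncomputable abbrev tautSec {n : ℕ} (j : Fin n) : SymProd.fibPow f n ⟶ PicF.XT f (powOver f n) :=
  H27HilbOne.graph f (powOver f n) (WidePullback.π (fun _ : Fin n => f) j) (WidePullback.π_arrow (fun _ : Fin n => f) j)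

/-- The big diagonal where the factors `i` and `j` agree. -/
noncomputable def diagIdeal {n : ℕ} (i j : Fin n) : (SymProd.fibPow f n).IdealSheafData :=
  (tautGraph f i).comap (tautSec f j)

variable [SmoothOfRelativeDimension 1 f] [IsSeparated f]

omit [SmoothOfRelativeDimension 1 f] in
theorem pull_permOver (n : ℕ) (σ : Equiv.Perm (Fin n)) (i : Fin n) :
    HilbD.pull f (permOver f n σ) (tautGraph f i) = tautGraph f (σ.symm i) := by
  rw [tautGraph, tautGraph, H27HilbOne.pull_secGraph]
  congr 1
  exact SymProd.permHom_π f n σ i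

omit [SmoothOfRelativeDimension 1 f] in
theorem diagIdeal_comap_perm {n : ℕ} (σ : Equiv.Perm (Fin n)) (i j : Fin n) :
    (diagIdeal f i j).comap (SymProd.permHom f n σ) = diagIdeal f (σ.symm i) (σ.symm j) := by
  rw [diagIdeal, diagIdeal, ← pull_permOver, H27HilbOne.pull_eq_comap, ← Scheme.IdealSheafData.comap_comp,
    ← Scheme.IdealSheafData.comap_comp]
  congr 1
  apply pullback.hom_ext
  · simp [PicF.XTmap, H27HilbOne.graph, permOver]
  · simp [PicF.XTmap, H27HilbOne.graph, permOver]
    exact (Category.id_comp _).symm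

/-- A diagonal involving the last factor is a graph. -/
theorem isEffCartier_diag_last {n : ℕ} (j : Fin n) :
    BlowUp.IsEffCartierIdeal (diagIdeal f j.castSucc (Fin.last n)) := by
  let e : SymProd.fibPow f (n + 1) ⟶ PicF.XT f (powOver f n) :=
    pullback.lift (WidePullback.π (fun _ : Fin (n + 1) => f) (Fin.last n)) (restr f n).left
      (isPullback_restr f n).w.symm
  haveI : IsIso e := by
    have he : e = (isPullback_restr f n).flip.isoPullback.hom := by
      apply pullback.hom_ext <;> simp [e]
    rw [he]; infer_instance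
  have hD : diagIdeal f j.castSucc (Fin.last n) = (tautGraph f j).comap e := by
    have h1 : tautGraph f j.castSucc = HilbD.pull f (restr f n) (tautGraph f j) := by
      rw [tautGraph, tautGraph, H27HilbOne.pull_secGraph]
      congr 1
      exact (restr_π f n j).symm
    rw [diagIdeal, h1, H27HilbOne.pull_eq_comap, ← Scheme.IdealSheafData.comap_comp]
    congr 1
    apply pullback.hom_ext
    · simp [PicF.XTmap, H27HilbOne.graph, e]
    · simp [PicF.XTmap, H27HilbOne.graph, e]
      exact Category.id_comp _
  rw [hD]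
  haveI := H27CurveDiv.smooth_XTproj f (powOver f n)
  exact isEffCartier_comap_of_iso e (H27CurveDiv.isEffCartierIdeal_of_divOfDeg (PicF.XTproj f (powOver f n))
    (H27HilbOne.graphObj f (powOver f n) _ (WidePullback.π_arrow (fun _ : Fin n => f) j)).2)

/-- The big diagonals are effective Cartier divisors. -/
theorem isEffCartier_diag : ∀ {n : ℕ} {i j : Fin n}, i ≠ j → BlowUp.IsEffCartierIdeal (diagIdeal f i j)
  | 0, i, _, _ => i.elim0
  | 1, i, j, h => absurd (Subsingleton.elim i j) h
  | n + 2, i, j, h => by
    classical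
    let σ₁ : Equiv.Perm (Fin (n + 2)) := Equiv.swap (Fin.last (n + 1)) j
    let c : Fin (n + 2) := (0 : Fin (n + 1)).castSucc
    let τ : Equiv.Perm (Fin (n + 2)) := Equiv.swap (σ₁ c) i * σ₁
    have hc : c ≠ Fin.last (n + 1) := (Fin.castSucc_lt_last _).ne
    have h1 : σ₁ (Fin.last (n + 1)) = j := Equiv.swap_apply_left _ _
    have hτc : τ c = i := by simp [τ]
    have hτl : τ (Fin.last (n + 1)) = j := by
      simp only [τ, Equiv.Perm.mul_apply, h1]
      exact Equiv.swap_apply_of_ne_of_ne (fun e => hc (σ₁.injective (h1.trans e).symm)) h.symm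
    have e := diagIdeal_comap_perm f τ.symm c (Fin.last (n + 1))
    rw [Equiv.symm_symm, hτc, hτl] at e
    rw [← e]
    haveI : IsIso (SymProd.permHom f (n + 2) τ.symm) := by
      rw [← SymProd.permAct_hom]; infer_instance
    exact isEffCartier_comap_of_iso _ (isEffCartier_diag_last f 0)

/-- The classifying map of the tautological divisor is the quotient by the symmetric group. -/
theorem isQuot_classify (hrep : ∀ e, HilbD.Representable f e) (n : ℕ) (H : Over S) (Z : HilbD.Obj f n H)
    (hZ : HilbD.IsUniversal f n H Z) (φ : powOver f n ⟶ H) (hφ : HilbD.pull f φ Z.1 = tautIdeal f n) :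
    SGA1.IsQuot (SymProd.permActU f n) φ.left := by
  classical
  have hinv : ∀ g, (SymProd.permActU f n g).hom ≫ φ.left = φ.left := by
    intro g
    rw [SymProd.permActU_hom]
    have e : permOver f n g.down ≫ φ = φ := by
      refine (hZ _ (tautObj f n)).unique ?_ hφ
      show HilbD.pull f (permOver f n g.down ≫ φ) Z.1 = tautIdeal f n
      rw [H27HilbOps.pull_comp, hφ, tautIdeal, pull_prod]
      simp only [pull_permOver]
      exact Equiv.prod_comp g.down.symm (fun i => tautGraph f i)
    exact congr($(e).left)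
  have hdeg : Mor2.IsFinLocFreeOfDeg (Fintype.card (ULift.{u} (Equiv.Perm (Fin n)))) φ.left := by
    rw [Fintype.card_ulift, Fintype.card_perm, Fintype.card_fin]
    exact finLocFree_classify f n (fun e _ => hrep e) H Z hZ φ hφ
  refine isQuot_of_finLocFree (SymProd.permActU f n) φ.left hinv hdeg
    (Finset.univ.filter fun p : Fin n × Fin n => p.1 ≠ p.2) (fun p => diagIdeal f p.1 p.2)
    (fun p hp => isEffCartier_diag f (Finset.mem_filter.mp hp).2) fun x hx g g' hgg => ?_
  apply ULift.ext
  by_contra hne
  have hne' : g.down.symm ≠ g'.down.symm := fun e => hne (Equiv.ext fun k => by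
    rw [show g.down = g.down.symm.symm from rfl, e]; rfl)
  obtain ⟨i, hi⟩ : ∃ i, g.down.symm i ≠ g'.down.symm i := by
    by_contra hn
    push Not at hn
    exact hne' (Equiv.ext hn)
  have hgg' : (SymProd.fibPow f n).fromSpecResidueField x ≫ SymProd.permHom f n g.down =
      (SymProd.fibPow f n).fromSpecResidueField x ≫ SymProd.permHom f n g'.down := hgg
  set a := (SymProd.fibPow f n).fromSpecResidueField x
  set j := g.down.symm i
  set k := g'.down.symm i
  have hπ : a ≫ WidePullback.π _ j = a ≫ WidePullback.π (fun _ : Fin n => f) k := by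
    have := congrArg (· ≫ WidePullback.π (fun _ : Fin n => f) i) hgg'
    simpa only [Category.assoc, SymProd.permHom_π] using this
  have hs : a ≫ tautSec f j = a ≫ tautSec f k := by
    apply pullback.hom_ext
    · simpa [H27HilbOne.graph] using hπ
    · simp [H27HilbOne.graph]
  refine hx (j, k) (Finset.mem_filter.mpr ⟨Finset.mem_univ _, hi⟩) ?_
  show x ∈ ((diagIdeal f j k).support : Set _)
  rw [diagIdeal, Scheme.IdealSheafData.support_comap]
  show tautSec f k x ∈ (tautGraph f j).support
  obtain ⟨z, hz⟩ : ∃ z, a z = x := ⟨IsLocalRing.closedPoint _, Scheme.fromSpecResidueField_apply _ _⟩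
  have hpt : tautSec f k x = tautSec f j x := by
    rw [← hz, ← Scheme.Hom.comp_apply, ← Scheme.Hom.comp_apply, hs]
  rw [hpt, tautGraph, H27HilbOne.secGraph_eq]
  exact Scheme.Hom.range_subset_ker_support _ ⟨x, rfl⟩

end Groth.Agent.H27SymProd
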