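/-
Symmetric powers of smooth proper relative curves.
-/
import Groth.Agent.H27SymProd.SymQuot
import Groth.Agent.H27CurveDiv.Curve
import Groth.Agent.H18Quot.Categorical
import Groth.Agent.H06Desc.SchDominant
import Groth.Agent.S1166

set_option autoImplicit false
set_option linter.style.haveILetI false
set_option backward.isDefEq.respectTransparency false
set_option backward.isDefEq.respectTransparency.types false

universe u

open CategoryTheory CategoryTheory.Limits AlgebraicGeometry
open H29Blow

namespace Groth.Agent.H27SymProd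

variable {C S Y : Scheme.{u}} (f : C ⟶ S) [SmoothOfRelativeDimension 1 f] [IsSeparated f]

omit [SmoothOfRelativeDimension 1 f] in
theorem representable_of_isAF (hAF : SymProd.IsAF f) (e : ℕ) : HilbD.Representable f e := by
  classical
  refine S1166.result f e fun s x hx => ?_
  obtain ⟨U, hU, hmem⟩ := hAF s (Finset.univ.image x) (by
    intro z hz
    obtain ⟨i, -, rfl⟩ := Finset.mem_image.mp hz
    exact hx i)
  exact ⟨U, hU, fun i => hmem _ (Finset.mem_image_of_mem x (Finset.mem_univ i))⟩

/-- The symmetric power carries the universal divisor, pulling back to the sum of the tautological points. -/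
theorem exists_universal (hAF : SymProd.IsAF f) (n : ℕ) (q : SymProd.fibPow f n ⟶ Y) (g : Y ⟶ S)
    (hq : SymProd.IsSymProd f n q g) :
    ∃ D : HilbD.Obj f n (Over.mk g), HilbD.IsUniversal f n (Over.mk g) D ∧
      HilbD.pull f (Over.homMk q hq.over : powOver f n ⟶ Over.mk g) D.1 = tautIdeal f n ∧
      Mor2.IsFinLocFreeOfDeg (Nat.factorial n) q ∧
      ∃ (H : Over S) (Z : HilbD.Obj f n H) (_ : HilbD.IsUniversal f n H Z), Nonempty (Over.mk g ≅ H) := by
  have hrep := representable_of_isAF f hAF
  obtain ⟨H, Z, hZ⟩ := hrep n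
  obtain ⟨φ, hφ, -⟩ := hZ (powOver f n) (tautObj f n)
  have hquot := isQuot_classify f hrep n H Z hZ φ hφ
  obtain ⟨h, hh⟩ := H18Quot.exists_desc φ.left hquot.inv hq.isQuot
  obtain ⟨k, hk⟩ := H18Quot.exists_desc q hq.isQuot.inv hquot
  haveI := H27Quot.epi hq.isQuot
  haveI := H27Quot.epi hquot
  have hhk : h ≫ k = 𝟙 Y := by rw [← cancel_epi q, ← Category.assoc, hh, hk, Category.comp_id]
  have hkh : k ≫ h = 𝟙 H.left := by rw [← cancel_epi φ.left, ← Category.assoc, hk, hh, Category.comp_id]
  have hw : h ≫ H.hom = g := by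
    rw [← cancel_epi q, ← Category.assoc, hh, Over.w φ, hq.over]
    rfl
  let iY : Y ≅ H.left := ⟨h, k, hhk, hkh⟩
  let e : Over.mk g ≅ H := Over.isoMk iY hw
  let D : HilbD.Obj f n (Over.mk g) := H27HilbOps.pullObj f e.hom Z
  refine ⟨D, fun T Z' => ?_, ?_, ?_, H, Z, hZ, ⟨e⟩⟩
  · obtain ⟨m, hm, hmu⟩ := hZ T Z'
    refine ⟨m ≫ e.inv, ?_, fun m' hm' => ?_⟩
    · show HilbD.pull f (m ≫ e.inv) (HilbD.pull f e.hom Z.1) = Z'.1
      rw [← H27HilbOps.pull_comp, Category.assoc, Iso.inv_hom_id, Category.comp_id]
      exact hm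
    · have := hmu (m' ≫ e.hom) (by
        show HilbD.pull f (m' ≫ e.hom) Z.1 = Z'.1
        rw [H27HilbOps.pull_comp]; exact hm')
      rw [← this, Category.assoc, Iso.hom_inv_id, Category.comp_id]
  · show HilbD.pull f _ (HilbD.pull f e.hom Z.1) = _
    rw [← H27HilbOps.pull_comp]
    rw [show (Over.homMk q hq.over : powOver f n ⟶ Over.mk g) ≫ e.hom = φ from Over.OverMorphism.ext hh]
    exact hφ
  · haveI : IsIso k := ⟨h, hkh, hhk⟩
    have := isFinLocFreeOfDeg_comp (finLocFree_classify f n (fun e _ => hrep e) H Z hZ φ hφ)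
      (H27HilbOne.isFinLocFreeOfDeg_one_of_isIso k)
    rwa [hk, mul_one] at this

omit [SmoothOfRelativeDimension 1 f] [IsSeparated f] in
/-- Inverse image of a closed immersion kernel under an isomorphism. -/
theorem ker_comap_iso {A B Z : Scheme.{u}} (σ : A ⟶ B) [IsIso σ] (a : Z ⟶ B) [IsClosedImmersion a] :
    a.ker.comap σ = (a ≫ inv σ).ker := by
  rw [← Scheme.IdealSheafData.ker_fst_of_isClosedImmersion,
    ← Scheme.Hom.ker_comp_of_isIso (pullback.snd σ a) (a ≫ inv σ)]
  congr 1
  rw [← Category.assoc, ← pullback.condition]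
  simp

omit [SmoothOfRelativeDimension 1 f] [IsSeparated f] in
theorem comap_finsetProd {A B : Scheme.{u}} (σ : A ⟶ B) {ι : Type*} (s : Finset ι) (I : ι → B.IdealSheafData) :
    (∏ i ∈ s, I i).comap σ = ∏ i ∈ s, (I i).comap σ := by
  classical
  induction s using Finset.induction_on with
  | empty =>
    rw [Finset.prod_empty, Finset.prod_empty, Scheme.IdealSheafData.one_eq_top,
      Scheme.IdealSheafData.comap_top, Scheme.IdealSheafData.one_eq_top]
  | insert a s ha ih => rw [Finset.prod_insert ha, Finset.prod_insert ha, comap_mul, ih]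

omit [SmoothOfRelativeDimension 1 f] [IsSeparated f] in
theorem isPullback_XTmap {T T' : Over S} (m : T' ⟶ T) :
    IsPullback (PicF.XTmap f m) (pullback.snd f T'.hom) (pullback.snd f T.hom) m.left := by
  have h1 : IsPullback (PicF.XTmap f m ≫ pullback.fst f T.hom) (pullback.snd f T'.hom) f
      (m.left ≫ T.hom) := by
    rw [Over.w m, show PicF.XTmap f m ≫ pullback.fst f T.hom = pullback.fst f T'.hom by simp [PicF.XTmap]]
    exact IsPullback.of_hasPullback f T'.hom
  exact IsPullback.of_right h1 (by simp [PicF.XTmap]) (IsPullback.of_hasPullback f T.hom)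

/-- The sum of the graphs descends uniquely along a finite locally free map. -/
theorem existsUnique_descent (n : ℕ) (q : SymProd.fibPow f n ⟶ Y) (g : Y ⟶ S)
    (hover : q ≫ g = WidePullback.base (fun _ : Fin n => f)) (D : HilbD.Obj f n (Over.mk g))
    (hD : HilbD.pull f (Over.homMk q hover : powOver f n ⟶ Over.mk g) D.1 = tautIdeal f n)
    (hdeg : Mor2.IsFinLocFreeOfDeg (Nat.factorial n) q) :
    (∃! J : (pullback g f).IdealSheafData,
      J.comap (pullback.map (WidePullback.base fun _ : Fin n => f) f g f q (𝟙 C) (𝟙 S)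
        ((Category.comp_id _).trans hover.symm) ((Category.comp_id f).trans (Category.id_comp f).symm)) =
      ∏ i : Fin n, (pullback.lift (𝟙 (SymProd.fibPow f n)) (WidePullback.π (fun _ : Fin n => f) i)
        ((Category.id_comp _).trans (WidePullback.π_arrow (fun _ : Fin n => f) i).symm) :
          SymProd.fibPow f n ⟶ pullback (WidePullback.base fun _ : Fin n => f) f).ker) ∧
    ∀ J : (pullback g f).IdealSheafData,
      J.comap (pullback.map (WidePullback.base fun _ : Fin n => f) f g f q (𝟙 C) (𝟙 S)
        ((Category.comp_id _).trans hover.symm) ((Category.comp_id f).trans (Category.id_comp f).symm)) =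
      ∏ i : Fin n, (pullback.lift (𝟙 (SymProd.fibPow f n)) (WidePullback.π (fun _ : Fin n => f) i)
        ((Category.id_comp _).trans (WidePullback.π_arrow (fun _ : Fin n => f) i).symm) :
          SymProd.fibPow f n ⟶ pullback (WidePullback.base fun _ : Fin n => f) f).ker →
      Mor2.IsFinLocFreeOfDeg n (J.subschemeι ≫ pullback.fst g f) := by
  obtain ⟨⟨hfin, hflat, hlfp⟩, hrk⟩ := hdeg
  let Q : powOver f n ⟶ Over.mk g := Over.homMk q hover
  let σb := (pullbackSymmetry (WidePullback.base fun _ : Fin n => f) f).hom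
  let σg := (pullbackSymmetry g f).hom
  set M := pullback.map (WidePullback.base fun _ : Fin n => f) f g f q (𝟙 C) (𝟙 S)
    ((Category.comp_id _).trans hover.symm) ((Category.comp_id f).trans (Category.id_comp f).symm)
  have hM : M = σb ≫ PicF.XTmap f Q ≫ inv σg := by
    rw [← Category.assoc, IsIso.eq_comp_inv]
    apply pullback.hom_ext <;> simp [M, σb, σg, PicF.XTmap, Q]
  haveI : Surjective q := by
    rw [← Scheme.Hom.one_le_finrank_iff_surjective]
    intro y
    rw [hrk]
    exact Nat.one_le_iff_ne_zero.mpr (Nat.factorial_ne_zero n)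
  have hXQ := (isPullback_XTmap f Q).flip
  haveI : Flat (PicF.XTmap f Q) := MorphismProperty.of_isPullback (P := @Flat) hXQ hflat
  haveI : Surjective (PicF.XTmap f Q) :=
    MorphismProperty.of_isPullback (P := @Surjective) hXQ ‹Surjective q›
  haveI : Flat M := by rw [hM]; infer_instance
  haveI : Surjective M := by rw [hM]; infer_instance
  have hJ0 : (D.1.comap σg).comap M = ∏ i : Fin n, (pullback.lift (𝟙 (SymProd.fibPow f n))
      (WidePullback.π (fun _ : Fin n => f) i)
        ((Category.id_comp _).trans (WidePullback.π_arrow (fun _ : Fin n => f) i).symm) :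
          SymProd.fibPow f n ⟶ pullback (WidePullback.base fun _ : Fin n => f) f).ker := by
    rw [← Scheme.IdealSheafData.comap_comp, hM]
    rw [show (σb ≫ PicF.XTmap f Q ≫ inv σg) ≫ σg = σb ≫ PicF.XTmap f Q by simp,
      Scheme.IdealSheafData.comap_comp, ← H27HilbOne.pull_eq_comap, hD, tautIdeal, comap_finsetProd]
    refine Finset.prod_congr rfl fun i _ => ?_
    rw [tautGraph, H27HilbOne.secGraph_eq]
    exact (ker_comap_iso σb _).trans (congrArg Scheme.Hom.ker (by
      rw [IsIso.comp_inv_eq]
      apply pullback.hom_ext <;> simp [σb, H27HilbOne.graph]))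
  refine ⟨⟨_, hJ0, fun J hJ => ?_⟩, fun J hJ => ?_⟩
  · exact H06Desc.comap_injective_of_flat_surjective M (hJ.trans hJ0.symm)
  · rw [show J = D.1.comap σg from H06Desc.comap_injective_of_flat_surjective M (hJ.trans hJ0.symm)]
    let k := (D.1.comapIso σg).hom ≫ pullback.snd σg D.1.subschemeι
    have hk : k ≫ D.1.subschemeι = (D.1.comap σg).subschemeι ≫ σg := by
      simp only [k, Category.assoc, ← pullback.condition, Scheme.IdealSheafData.comapIso_hom_fst_assoc]
    have hfst : (D.1.comap σg).subschemeι ≫ pullback.fst g f = k ≫ D.1.subschemeι ≫ PicF.XTproj f (Over.mk g) := by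
      rw [← Category.assoc k, hk, Category.assoc]
      congr 1
      exact (pullbackSymmetry_hom_comp_snd g f).symm
    rw [hfst]
    have := isFinLocFreeOfDeg_comp (H27HilbOne.isFinLocFreeOfDeg_one_of_isIso k) D.2
    rwa [one_mul] at this

end Groth.Agent.H27SymProd
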